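import Mathlib

/-!
Iterated commutator subgroups and joins of groups acting nilpotently on a section.
-/

set_option autoImplicit false
set_option maxHeartbeats 400000

namespace Cfsg.Agent.Grp.CW

open Subgroup
open scoped commutatorElement

variable {G : Type*} [Group G]

/-- `Y` normalizes `X`. -/
abbrev Nm (Y X : Subgroup G) : Prop := Y ≤ Subgroup.normalizer (X : Set G)

theorem nm_iff {Y X : Subgroup G} : Nm Y X ↔ ⁅X, Y⁆ ≤ X := le_normalizer_iff_commutator_le_left

theorem nm_self (X : Subgroup G) : Nm X X := Subgroup.le_normalizer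

theorem nm_of_le {Y X : Subgroup G} (h : Y ≤ X) : Nm Y X := h.trans Subgroup.le_normalizer

theorem nm_normal (Y X : Subgroup G) [X.Normal] : Nm Y X := by
  rw [Nm, Subgroup.normalizer_eq_top]; exact le_top

theorem nm_iff_map {Y X : Subgroup G} :
    Nm Y X ↔ ∀ g ∈ Y, X.map (MulAut.conj g).toMonoidHom ≤ X := by
  constructor
  · rintro h g hg _ ⟨x, hx, rfl⟩
    exact (Subgroup.mem_normalizer_iff.mp (h hg) x).mp hx
  · intro h g hg
    refine Subgroup.mem_normalizer_iff.mpr fun x => ⟨fun hx => h g hg ⟨x, hx, rfl⟩, fun hx => ?_⟩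
    have := h g⁻¹ (Y.inv_mem hg) ⟨_, hx, rfl⟩
    simpa [mul_assoc] using this

theorem nm_commutator {Y X X' : Subgroup G} (h : Nm Y X) (h' : Nm Y X') : Nm Y ⁅X, X'⁆ := by
  rw [nm_iff_map] at h h' ⊢
  intro g hg
  rw [map_commutator]
  exact commutator_mono (h g hg) (h' g hg)

theorem nm_left (X Y : Subgroup G) : Nm X ⁅X, Y⁆ := by
  rw [nm_iff, commutator_comm X Y]
  have : ⁅⁅Y, X⁆, X⁆ ≤ ⁅Y, X⁆ := by
    rw [← le_normalizer_iff_commutator_le_left]
    intro g hg
    refine Subgroup.mem_normalizer_iff.mpr ?_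
    have key : ∀ k ∈ X, ∀ z ∈ ⁅Y, X⁆, k * z * k⁻¹ ∈ ⁅Y, X⁆ := by
      intro k hk z hz
      have h1 : ⁅Y, X⁆ ≤ (⁅Y, X⁆).comap (MulAut.conj k).toMonoidHom := by
        rw [commutator_le]
        intro y hy x hx
        show k * ⁅y, x⁆ * k⁻¹ ∈ ⁅Y, X⁆
        rw [show k * ⁅y, x⁆ * k⁻¹ = ⁅y, k⁆⁻¹ * ⁅y, k * x⁆ by simp only [commutatorElement_def]; group]
        exact mul_mem (inv_mem (commutator_mem_commutator hy hk))
          (commutator_mem_commutator hy (mul_mem hk hx))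
      exact h1 hz
    intro z
    refine ⟨key g hg z, fun hz => ?_⟩
    have := key g⁻¹ (X.inv_mem hg) _ hz
    simpa [mul_assoc] using this
  exact this

theorem nm_right (X Y : Subgroup G) : Nm Y ⁅X, Y⁆ := by
  rw [commutator_comm]; exact nm_left Y X

theorem nm_iSup {ι : Sort*} {Y : Subgroup G} {X : ι → Subgroup G} (h : ∀ i, Nm Y (X i)) :
    Nm Y (⨆ i, X i) := by
  rw [nm_iff_map]
  intro g hg
  rw [Subgroup.map_iSup]
  exact iSup_mono fun i => nm_iff_map.mp (h i) g hg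

theorem nm_sup {Y X X' : Subgroup G} (h : Nm Y X) (h' : Nm Y X') : Nm Y (X ⊔ X') := by
  rw [nm_iff_map]
  intro g hg
  rw [Subgroup.map_sup]
  exact sup_le_sup (nm_iff_map.mp h g hg) (nm_iff_map.mp h' g hg)

theorem nm_inf {Y X X' : Subgroup G} (h : Nm Y X) (h' : Nm Y X') : Nm Y (X ⊓ X') := by
  rw [nm_iff_map]
  intro g hg
  refine (map_inf_le _ _ _).trans ?_
  exact inf_le_inf (nm_iff_map.mp h g hg) (nm_iff_map.mp h' g hg)

theorem commutator_sup_left_le {X X' Y N : Subgroup G} (h : ⁅X, Y⁆ ≤ N) (h' : ⁅X', Y⁆ ≤ N)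
    (hn : Nm X N) (hn' : Nm X' N) : ⁅X ⊔ X', Y⁆ ≤ N := by
  rw [commutator_le]
  intro g hg y hy
  suffices h : g ∈ Subgroup.normalizer (N : Set G) ∧ ⁅g, y⁆ ∈ N from h.2
  rw [sup_eq_closure] at hg
  induction hg using Subgroup.closure_induction with
  | mem x hx =>
    rcases hx with hx | hx
    · exact ⟨hn hx, h (commutator_mem_commutator hx hy)⟩
    · exact ⟨hn' hx, h' (commutator_mem_commutator hx hy)⟩
  | one => exact ⟨one_mem _, by simp⟩
  | mul a b _ _ ha hb =>
    refine ⟨mul_mem ha.1 hb.1, ?_⟩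
    rw [show ⁅a * b, y⁆ = a * ⁅b, y⁆ * a⁻¹ * ⁅a, y⁆ by simp only [commutatorElement_def]; group]
    exact mul_mem ((Subgroup.mem_normalizer_iff.mp ha.1 _).mp hb.2) ha.2
  | inv a _ ha =>
    refine ⟨inv_mem ha.1, ?_⟩
    rw [show ⁅a⁻¹, y⁆ = a⁻¹ * ⁅a, y⁆⁻¹ * a⁻¹⁻¹ by simp only [commutatorElement_def]; group]
    exact (Subgroup.mem_normalizer_iff.mp (inv_mem ha.1) _).mp (inv_mem ha.2)

theorem commutator_sup_right_le {X Y Y' N : Subgroup G} (h : ⁅X, Y⁆ ≤ N) (h' : ⁅X, Y'⁆ ≤ N)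
    (hn : Nm Y N) (hn' : Nm Y' N) : ⁅X, Y ⊔ Y'⁆ ≤ N := by
  rw [commutator_comm] at h h' ⊢
  exact commutator_sup_left_le h h' hn hn'

theorem commutator_iSup_left_le {ι : Sort*} {X : ι → Subgroup G} {Y N : Subgroup G}
    (h : ∀ i, ⁅X i, Y⁆ ≤ N) (hn : ∀ i, Nm (X i) N) : ⁅⨆ i, X i, Y⁆ ≤ N := by
  rw [commutator_le]
  intro g hg y hy
  suffices h : g ∈ Subgroup.normalizer (N : Set G) ∧ ⁅g, y⁆ ∈ N from h.2
  induction hg using Subgroup.iSup_induction' with
  | hp i x hx => exact ⟨hn i hx, h i (commutator_mem_commutator hx hy)⟩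
  | h1 => exact ⟨one_mem _, by simp⟩
  | hmul a b _ _ ha hb =>
    refine ⟨mul_mem ha.1 hb.1, ?_⟩
    rw [show ⁅a * b, y⁆ = a * ⁅b, y⁆ * a⁻¹ * ⁅a, y⁆ by simp only [commutatorElement_def]; group]
    exact mul_mem ((Subgroup.mem_normalizer_iff.mp ha.1 _).mp hb.2) ha.2

theorem nm_sup_of_comm {W Z N : Subgroup G} (hN : Nm Z N) (hWN : Nm W N) (h : ⁅W, Z⁆ ≤ W ⊔ N) :
    Nm Z (W ⊔ N) := by
  rw [nm_iff]
  exact commutator_sup_left_le h ((nm_iff.mp hN).trans le_sup_right) (nm_of_le le_sup_left)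
    (nm_of_le le_sup_right)

/-- Iterated commutator subgroup `[X, Y, ..., Y]`. -/
def com (X Y : Subgroup G) : ℕ → Subgroup G
  | 0 => X
  | n + 1 => ⁅com X Y n, Y⁆

theorem com_zero (X Y : Subgroup G) : com X Y 0 = X := rfl

theorem com_succ (X Y : Subgroup G) (n : ℕ) : com X Y (n + 1) = ⁅com X Y n, Y⁆ := rfl

theorem com_mono {X X' Y Y' : Subgroup G} (hX : X ≤ X') (hY : Y ≤ Y') :
    ∀ n, com X Y n ≤ com X' Y' n
  | 0 => hX
  | n + 1 => commutator_mono (com_mono hX hY n) hY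

theorem com_com (X Y : Subgroup G) (m : ℕ) : ∀ n, com (com X Y m) Y n = com X Y (m + n)
  | 0 => rfl
  | n + 1 => by rw [com_succ, com_com X Y m n, ← com_succ, add_assoc]

theorem nm_com {R X Y : Subgroup G} (hX : Nm R X) (hY : Nm R Y) : ∀ n, Nm R (com X Y n)
  | 0 => hX
  | n + 1 => nm_commutator (nm_com hX hY n) hY

theorem com_succ_le {X Y : Subgroup G} (h : Nm Y X) : ∀ n, com X Y (n + 1) ≤ com X Y n
  | 0 => nm_iff.mp h
  | n + 1 => commutator_mono (com_succ_le h n) le_rfl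

theorem com_antitone {X Y : Subgroup G} (h : Nm Y X) {m n : ℕ} (hmn : m ≤ n) :
    com X Y n ≤ com X Y m := by
  induction hmn with
  | refl => exact le_rfl
  | step _ ih => exact (com_succ_le h _).trans ih

theorem com_le {X Y : Subgroup G} (h : Nm Y X) (n : ℕ) : com X Y n ≤ X :=
  com_antitone h (Nat.zero_le n)

theorem com_le_sup (X Y : Subgroup G) : ∀ n, com X Y n ≤ X ⊔ Y
  | 0 => le_sup_left
  | n + 1 => (commutator_le_sup _ _).trans (sup_le (com_le_sup X Y n) le_sup_right)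

theorem com_sup_left_le {X Y U : Subgroup G} (hX : Nm X U) (hY : Nm Y U) :
    ∀ n, com (X ⊔ U) Y n ≤ com X Y n ⊔ U
  | 0 => le_rfl
  | n + 1 => by
    rw [com_succ]
    refine (commutator_mono (com_sup_left_le hX hY n) le_rfl).trans ?_
    exact commutator_sup_left_le le_sup_left ((nm_iff.mp hY).trans le_sup_right)
      (nm_sup (nm_left _ _) ((com_le_sup X Y n).trans (sup_le hX hY))) (nm_of_le le_sup_right)

/-- Induction on layers of an iterated commutator. -/
theorem com_mul_le {V R : Subgroup G} {L : ℕ → Subgroup G} {a : ℕ} (h0 : V ≤ L 0)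
    (hs : ∀ i, com (L i) R a ≤ L (i + 1)) : ∀ i, com V R (a * i) ≤ L i
  | 0 => h0
  | i + 1 => by
    rw [Nat.mul_succ, ← com_com]
    exact (com_mono (com_mul_le h0 hs i) le_rfl a).trans (hs i)

/-- If `C` and `Z` act nilpotently on a section and `C` normalizes `Z`, so does `C ⊔ Z`. -/
theorem com_join {V U C Z : Subgroup G} {a b : ℕ} (hCV : Nm C V) (hZV : Nm Z V) (hCZ : Nm C Z)
    (hVU : Nm V U) (hCU : Nm C U) (hZU : Nm Z U) (hC : com V C a ≤ U) (hZ : com V Z b ≤ U) :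
    com V (C ⊔ Z) (a * b) ≤ U := by
  set L : ℕ → Subgroup G := fun i => com V Z i ⊔ U with hL
  have hiV : ∀ i, com V Z i ≤ V := fun i => com_le hZV i
  have hLn : ∀ i, L (i + 1) ≤ L (i + 1) ⊔ L i := fun i => le_sup_left
  have hCL : ∀ i, Nm C (L i) := fun i => nm_sup (nm_com hCV hCZ i) hCU
  have hZL : ∀ i, Nm Z (L i) := fun i => nm_sup (nm_com hZV (nm_self Z) i) hZU
  have hLL : ∀ i, Nm (L i) (L (i + 1)) := fun i =>
    sup_le (nm_sup (nm_left _ _) ((hiV i).trans hVU)) (nm_of_le le_sup_right)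
  have hLZ : ∀ i, ⁅L i, Z⁆ ≤ L (i + 1) := fun i =>
    commutator_sup_left_le le_sup_left ((nm_iff.mp hZU).trans le_sup_right)
      (le_sup_left.trans (hLL i)) (nm_of_le le_sup_right)
  have hstep : ∀ i q, com (L i) (C ⊔ Z) q ≤ com (L i) C q ⊔ L (i + 1) := by
    intro i q
    induction q with
    | zero => exact le_sup_left
    | succ q ih =>
      rw [com_succ]
      refine (commutator_mono ih le_rfl).trans ?_
      have hW : ∀ n, com (L i) C n ≤ L i := fun n => com_le (hCL i) n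
      have hX : Nm (com (L i) C q) (com (L i) C (q + 1) ⊔ L (i + 1)) :=
        nm_sup (nm_left _ _) ((hW q).trans (hLL i))
      have hCT : Nm C (com (L i) C (q + 1) ⊔ L (i + 1)) :=
        nm_sup (nm_com (hCL i) (nm_self C) _) (hCL _)
      have hZT : Nm Z (com (L i) C (q + 1) ⊔ L (i + 1)) :=
        nm_sup_of_comm (hZL _) ((hW _).trans (hLL i))
          (((commutator_mono (hW _) le_rfl).trans (hLZ i)).trans le_sup_right)
      refine commutator_sup_left_le ?_ ?_ hX (nm_of_le le_sup_right)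
      · exact commutator_sup_right_le le_sup_left
          (((commutator_mono (hW _) le_rfl).trans (hLZ i)).trans le_sup_right) hCT hZT
      · exact (commutator_sup_right_le (nm_iff.mp (hCL _)) (nm_iff.mp (hZL _)) (hCL _)
          (hZL _)).trans le_sup_right
  have hlay : ∀ i, com (L i) (C ⊔ Z) a ≤ L (i + 1) := fun i => by
    refine (hstep i a).trans (sup_le ?_ le_rfl)
    calc com (L i) C a ≤ com (V ⊔ U) C a := com_mono (sup_le_sup_right (hiV i) U) le_rfl a
      _ ≤ com V C a ⊔ U := com_sup_left_le hVU hCU a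
      _ ≤ U := sup_le hC le_rfl
      _ ≤ L (i + 1) := le_sup_right
  exact (com_mul_le (le_sup_left (b := U)) hlay b).trans (sup_le hZ le_rfl)

/-- Iterated form of `com_join`. -/
theorem com_finset_join {ι : Type*} {V U Z : Subgroup G} {a b : ℕ} (C : ι → Subgroup G)
    (S : Finset ι) (hCV : ∀ i ∈ S, Nm (C i) V) (hZV : Nm Z V)
    (hCZ : ∀ i ∈ S, Nm (C i) Z) (hCC : ∀ i ∈ S, ∀ j ∈ S, Nm (C i) (C j ⊔ Z))
    (hVU : Nm V U) (hCU : ∀ i ∈ S, Nm (C i) U) (hZU : Nm Z U)
    (hC : ∀ i ∈ S, com V (C i) a ≤ U) (hZ : com V Z b ≤ U) :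
    com V ((⨆ i ∈ S, C i) ⊔ Z) (a ^ S.card * b) ≤ U := by
  classical
  induction S using Finset.induction_on with
  | empty => simpa using hZ
  | @insert k S hk ih =>
    have hS : ∀ i ∈ S, i ∈ insert k S := fun i hi => Finset.mem_insert_of_mem hi
    have hk' := Finset.mem_insert_self k S
    have hkR : Nm (C k) ((⨆ i ∈ S, C i) ⊔ Z) := by
      refine nm_iff_map.mpr fun g hg => ?_
      rw [Subgroup.map_sup]
      refine sup_le ?_ ((nm_iff_map.mp (hCZ k hk') g hg).trans le_sup_right)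
      rw [Subgroup.map_iSup]
      refine iSup_le fun i => ?_
      rw [Subgroup.map_iSup]
      refine iSup_le fun hi => ?_
      refine le_trans ?_ (le_trans (nm_iff_map.mp (hCC k hk' i (hS i hi)) g hg) ?_)
      · exact Subgroup.map_mono le_sup_left
      · exact sup_le_sup_right (le_iSup₂ (f := fun i (_ : i ∈ S) => C i) i hi) Z
    have e : ((⨆ i ∈ insert k S, C i) ⊔ Z) = C k ⊔ ((⨆ i ∈ S, C i) ⊔ Z) := by
      rw [Finset.iSup_insert, sup_assoc]
    rw [e, Finset.card_insert_of_notMem hk, pow_succ', mul_assoc]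
    refine com_join (hCV k hk') (sup_le (iSup₂_le fun i hi => hCV i (hS i hi)) hZV) hkR hVU
      (hCU k hk') (sup_le (iSup₂_le fun i hi => hCU i (hS i hi)) hZU) (hC k hk') ?_
    exact ih (fun i hi => hCV i (hS i hi)) (fun i hi => hCZ i (hS i hi))
      (fun i hi j hj => hCC i (hS i hi) j (hS j hj)) (fun i hi => hCU i (hS i hi))
      (fun i hi => hC i (hS i hi))

/-- In an abelian section the action is tested on a generating family of subgroups. -/
theorem com_iSup_left_le {ι : Sort*} {V U C : Subgroup G} {X : ι → Subgroup G} {n : ℕ}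
    (hab : ⁅V, V⁆ ≤ U) (hUV : U ≤ V) (hCV : Nm C V) (hCU : Nm C U) (hX : ∀ i, X i ≤ V)
    (h : ∀ i, com (X i) C n ≤ U) : com ((⨆ i, X i) ⊔ U) C n ≤ U := by
  have key : ∀ q, com ((⨆ i, X i) ⊔ U) C q ≤ (⨆ i, com (X i) C q) ⊔ U := by
    intro q
    induction q with
    | zero => exact le_rfl
    | succ q ih =>
      rw [com_succ]
      refine (commutator_mono ih le_rfl).trans ?_
      have hq : ∀ m i, com (X i) C m ≤ V := fun m i => (com_mono (hX i) le_rfl m).trans (com_le hCV m)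
      have hn : Nm V ((⨆ i, com (X i) C (q + 1)) ⊔ U) := by
        rw [nm_iff]
        exact (commutator_mono (sup_le (iSup_le (hq (q + 1))) hUV) le_rfl).trans
          (hab.trans le_sup_right)
      refine commutator_sup_left_le ?_ ((nm_iff.mp hCU).trans le_sup_right)
        ((iSup_le (hq q)).trans hn) (nm_of_le le_sup_right)
      exact commutator_iSup_left_le
        (fun i => (le_iSup (fun i => com (X i) C (q + 1)) i).trans le_sup_left)
        (fun i => (hq q i).trans hn)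
  exact (key n).trans (sup_le (iSup_le h) le_rfl)

end Cfsg.Agent.Grp.CW
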