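import Mathlib
import Cfsg.Agent.Lib.Grp.CoprimeWord.Com
import Cfsg.Agent.Lib.Grp.AssocLie

/-!
Commutator trees and the filtration of the value of a tree by a nilpotent normal subgroup.
-/

set_option autoImplicit false

namespace Cfsg.Agent.Grp.CW

open Subgroup
open scoped commutatorElement

variable {G : Type*} [Group G]

/-- Binary commutator trees. -/
inductive Word where
  | leaf
  | node (u v : Word)

/-- Number of leaves. -/
def Word.size : Word → ℕ
  | .leaf => 1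
  | .node u v => u.size + v.size

theorem Word.size_pos : ∀ u : Word, 0 < u.size
  | .leaf => Nat.one_pos
  | .node u v => Nat.lt_of_lt_of_le u.size_pos (Nat.le_add_right _ _)

/-- The subgroup defined by a tree. -/
def wsub : Word → Subgroup G → Subgroup G
  | .leaf, X => X
  | .node u v, X => ⁅wsub u X, wsub v X⁆

theorem wsub_mono : ∀ (u : Word) {X Y : Subgroup G}, X ≤ Y → wsub u X ≤ wsub u Y
  | .leaf, _, _, h => h
  | .node u v, _, _, h => commutator_mono (wsub_mono u h) (wsub_mono v h)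

theorem wsub_map {H : Type*} [Group H] (f : G →* H) :
    ∀ (u : Word) (X : Subgroup G), (wsub u X).map f = wsub u (X.map f)
  | .leaf, _ => rfl
  | .node u v, X => by
    show (⁅wsub u X, wsub v X⁆).map f = ⁅wsub u (X.map f), wsub v (X.map f)⁆
    rw [map_commutator, wsub_map f u, wsub_map f v]

theorem wsub_le : ∀ (u : Word) (X : Subgroup G), wsub u X ≤ X
  | .leaf, _ => le_rfl
  | .node u v, X => (commutator_mono (wsub_le u X) (wsub_le v X)).trans
      (nm_iff.mp (nm_self X))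

theorem nm_wsub {R X : Subgroup G} (h : Nm R X) : ∀ u : Word, Nm R (wsub u X)
  | .leaf => h
  | .node u v => nm_commutator (nm_wsub h u) (nm_wsub h v)

/-- The derived series as subgroups of the ambient group. -/
def dser (X : Subgroup G) : ℕ → Subgroup G
  | 0 => X
  | n + 1 => ⁅dser X n, dser X n⁆

theorem dser_le (X : Subgroup G) : ∀ n, dser X n ≤ X
  | 0 => le_rfl
  | n + 1 => (commutator_mono (dser_le X n) (dser_le X n)).trans (nm_iff.mp (nm_self X))

theorem dser_eq_map (X : Subgroup G) : ∀ n, dser X n = (derivedSeries X n).map X.subtype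
  | 0 => by
    show X = _
    rw [derivedSeries_zero, ← MonoidHom.range_eq_map, Subgroup.range_subtype]
  | n + 1 => by
    show ⁅dser X n, dser X n⁆ = _
    rw [dser_eq_map X n, derivedSeries_succ, map_commutator]

theorem dser_antitone (X : Subgroup G) {m n : ℕ} (h : m ≤ n) : dser X n ≤ dser X m := by
  induction h with
  | refl => exact le_rfl
  | @step k _ ih => exact (nm_iff.mp (nm_self (dser X k))).trans ih

theorem dser_le_wsub : ∀ (u : Word) (X : Subgroup G), dser X u.size ≤ wsub u X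
  | .leaf, X => dser_le X 1
  | .node u v, X => by
    have hu := u.size_pos
    have hv := v.size_pos
    refine (dser_antitone X (m := max u.size v.size + 1) ?_).trans ?_
    · show _ ≤ u.size + v.size
      omega
    · exact commutator_mono ((dser_antitone X (le_max_left _ _)).trans (dser_le_wsub u X))
        ((dser_antitone X (le_max_right _ _)).trans (dser_le_wsub v X))

/-- The three subgroup lemma relative to a subgroup normalized by the three. -/
theorem three_sub {H₁ H₂ H₃ N : Subgroup G} (n1 : Nm H₁ N) (n2 : Nm H₂ N) (n3 : Nm H₃ N)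
    (h1 : ⁅⁅H₂, H₃⁆, H₁⁆ ≤ N) (h2 : ⁅⁅H₃, H₁⁆, H₂⁆ ≤ N) : ⁅⁅H₁, H₂⁆, H₃⁆ ≤ N := by
  set M := Subgroup.normalizer (N : Set G) with hM
  have key : ∀ A B C : Subgroup G, A ≤ M → B ≤ M → C ≤ M →
      (⁅⁅A.subgroupOf M, B.subgroupOf M⁆, C.subgroupOf M⁆).map M.subtype = ⁅⁅A, B⁆, C⁆ := by
    intro A B C hA hB hC
    simp only [map_commutator, Subgroup.map_subgroupOf_eq_of_le, hA, hB, hC]
  have hN : N ≤ M := Subgroup.le_normalizer
  have tr : ∀ A B C : Subgroup G, A ≤ M → B ≤ M → C ≤ M →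
      (⁅⁅A.subgroupOf M, B.subgroupOf M⁆, C.subgroupOf M⁆ ≤ N.subgroupOf M ↔ ⁅⁅A, B⁆, C⁆ ≤ N) := by
    intro A B C hA hB hC
    rw [← Subgroup.map_le_map_iff_of_injective M.subtype_injective, key A B C hA hB hC,
      Subgroup.map_subgroupOf_eq_of_le hN]
  rw [← tr _ _ _ n1 n2 n3]
  exact AssocLie.three_subgroups _ _ _ _ ((tr _ _ _ n2 n3 n1).mpr h1) ((tr _ _ _ n3 n1 n2).mpr h2)

theorem lcs_comm_le (K : Subgroup G) (i j : ℕ) :
    ⁅K.lowerCentralSeries i, K.lowerCentralSeries j⁆ ≤ K.lowerCentralSeries (i + j + 1) := by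
  simp only [← top_subtype_lowerCentralSeries K]
  rw [← map_commutator]
  exact map_mono (AssocLie.lcs_commutator j i)

theorem nm_lcs {R K : Subgroup G} (h : Nm R K) : ∀ n, Nm R (K.lowerCentralSeries n)
  | 0 => h
  | n + 1 => nm_commutator (nm_lcs h n) h

/-- The filtration of `G₀` by the lower central series of `K`. -/
def fil (G₀ K : Subgroup G) : ℕ → Subgroup G
  | 0 => G₀
  | a + 1 => K.lowerCentralSeries a

/-- The layers of a tree. -/
def tl (G₀ K : Subgroup G) : Word → ℕ → Subgroup G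
  | .leaf, j => fil G₀ K j
  | .node u v, j => ⨆ a : Fin (j + 1), ⁅tl G₀ K u a, tl G₀ K v (j - a)⁆

theorem tl_node_le {G₀ K : Subgroup G} {u v : Word} {a b : ℕ} :
    ⁅tl G₀ K u a, tl G₀ K v b⁆ ≤ tl G₀ K (.node u v) (a + b) := by
  refine le_iSup_of_le (f := fun x : Fin (a + b + 1) => ⁅tl G₀ K u x, tl G₀ K v (a + b - x)⁆)
    ⟨a, by omega⟩ (le_of_eq ?_)
  simp

variable {G₀ K : Subgroup G}

theorem nm_fil {R : Subgroup G} (h0 : Nm R G₀) (hK : Nm R K) : ∀ a, Nm R (fil G₀ K a)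
  | 0 => h0
  | a + 1 => nm_lcs hK a

theorem nm_tl {R : Subgroup G} (h0 : Nm R G₀) (hK : Nm R K) : ∀ (u : Word) (j : ℕ),
    Nm R (tl G₀ K u j)
  | .leaf, j => nm_fil h0 hK j
  | .node u v, j => nm_iSup fun a => nm_commutator (nm_tl h0 hK u a) (nm_tl h0 hK v _)

theorem fil_succ_le (hK0 : K ≤ G₀) : ∀ a, fil G₀ K (a + 1) ≤ fil G₀ K a
  | 0 => hK0
  | a + 1 => K.lowerCentralSeries_antitone (Nat.le_succ a)

theorem fil_le (hK0 : K ≤ G₀) : ∀ a, fil G₀ K a ≤ G₀
  | 0 => le_rfl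
  | a + 1 => (K.lowerCentralSeries_le_self a).trans hK0

theorem fil_mul (hK : Nm G₀ K) : ∀ a b, ⁅fil G₀ K a, fil G₀ K b⁆ ≤ fil G₀ K (a + b)
  | 0, b => by
    rw [Nat.zero_add, commutator_comm]
    exact nm_iff.mp (nm_fil (nm_self G₀) hK b)
  | a + 1, 0 => nm_iff.mp (nm_fil (nm_self G₀) hK (a + 1))
  | a + 1, b + 1 => by
    rw [show a + 1 + (b + 1) = (a + b + 1) + 1 by omega]
    exact lcs_comm_le K a b

theorem tl_le_fil (hK : Nm G₀ K) : ∀ (u : Word) (j : ℕ), tl G₀ K u j ≤ fil G₀ K j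
  | .leaf, _ => le_rfl
  | .node u v, j => iSup_le fun a => ((commutator_mono (tl_le_fil hK u a)
      (tl_le_fil hK v _)).trans (fil_mul hK _ _)).trans (le_of_eq (by rw [Nat.add_sub_cancel' (by omega)]))

theorem tl_le (hK : Nm G₀ K) (hK0 : K ≤ G₀) (u : Word) (j : ℕ) : tl G₀ K u j ≤ G₀ :=
  (tl_le_fil hK u j).trans (fil_le hK0 j)

theorem tl_succ_le (hK0 : K ≤ G₀) : ∀ (u : Word) (j : ℕ),
    tl G₀ K u (j + 1) ≤ tl G₀ K u j
  | .leaf, j => fil_succ_le hK0 j
  | .node u v, j => by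
    refine iSup_le fun a => ?_
    rcases Nat.eq_zero_or_pos (a : ℕ) with h | h
    · refine (commutator_mono le_rfl ?_).trans
        ((tl_node_le (a := (a : ℕ)) (b := j)).trans (le_of_eq (by rw [h, Nat.zero_add])))
      rw [h, Nat.sub_zero]
      exact tl_succ_le hK0 v j
    · have ha : (a : ℕ) = ((a : ℕ) - 1) + 1 := by omega
      refine (commutator_mono ?_ le_rfl).trans
        ((tl_node_le (a := (a : ℕ) - 1) (b := j + 1 - a)).trans (le_of_eq (by congr 1; omega)))
      rw [ha]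
      exact tl_succ_le hK0 u _

theorem tl_antitone (hK0 : K ≤ G₀) (u : Word) {i j : ℕ} (h : i ≤ j) :
    tl G₀ K u j ≤ tl G₀ K u i := by
  induction h with
  | refl => exact le_rfl
  | step _ ih => exact (tl_succ_le hK0 u _).trans ih

theorem tl_bracket (hK : Nm G₀ K) (hK0 : K ≤ G₀) : ∀ (u : Word) (j b : ℕ),
    ⁅tl G₀ K u j, fil G₀ K b⁆ ≤ tl G₀ K u (j + b)
  | .leaf, j, b => fil_mul hK j b
  | .node u v, j, b => by
    have hN : Nm G₀ (tl G₀ K (.node u v) (j + b)) := nm_tl (nm_self G₀) hK _ _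
    refine commutator_iSup_left_le (fun a => ?_) fun a =>
      ((commutator_mono (tl_le hK hK0 u a) (tl_le hK hK0 v _)).trans (nm_iff.mp (nm_self G₀))).trans hN
    have ha : (a : ℕ) ≤ j := by omega
    refine three_sub ((tl_le hK hK0 u _).trans hN) ((tl_le hK hK0 v _).trans hN)
      ((fil_le hK0 b).trans hN) ?_ ?_
    · refine (commutator_mono (tl_bracket hK hK0 v _ b) le_rfl).trans ?_
      rw [commutator_comm]
      exact tl_node_le.trans (le_of_eq (by congr 1; omega))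
    · rw [commutator_comm (fil G₀ K b)]
      refine (commutator_mono (tl_bracket hK hK0 u _ b) le_rfl).trans ?_
      exact tl_node_le.trans (le_of_eq (by congr 1; omega))

theorem tl_node_le_right (hK : Nm G₀ K) (hK0 : K ≤ G₀) (u v : Word) (j : ℕ) :
    tl G₀ K (.node u v) j ≤ tl G₀ K v j := by
  refine iSup_le fun a => ?_
  rw [commutator_comm]
  exact ((commutator_mono le_rfl (tl_le_fil hK u a)).trans (tl_bracket hK hK0 v _ _)).trans
    (le_of_eq (by congr 1; omega))

theorem tl_node_le_left (hK : Nm G₀ K) (hK0 : K ≤ G₀) (u v : Word) (j : ℕ) :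
    tl G₀ K (.node u v) j ≤ tl G₀ K u j :=
  iSup_le fun a => ((commutator_mono le_rfl (tl_le_fil hK v _)).trans (tl_bracket hK hK0 u _ _)).trans
    (le_of_eq (by congr 1; omega))

theorem tl_zero : ∀ u : Word, tl G₀ K u 0 = wsub u G₀
  | .leaf => rfl
  | .node u v => by
    show (⨆ a : Fin 1, ⁅tl G₀ K u a, tl G₀ K v (0 - a)⁆) = ⁅wsub u G₀, wsub v G₀⁆
    rw [iSup_unique]
    simp [tl_zero u, tl_zero v]

theorem nm_fil_between (hK : Nm G₀ K) (hK0 : K ≤ G₀) (u : Word) {j c : ℕ} (hc : 1 ≤ c)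
    {X : Subgroup G} (hX : X ≤ tl G₀ K u j) :
    Nm (fil G₀ K c) (X ⊔ tl G₀ K u (j + 1)) := by
  refine nm_sup_of_comm ((fil_le hK0 c).trans (nm_tl (nm_self G₀) hK u _))
    ((hX.trans (tl_le hK hK0 u j)).trans (nm_tl (nm_self G₀) hK u _)) ?_
  exact (((commutator_mono hX le_rfl).trans (tl_bracket hK hK0 u j c)).trans
    (tl_antitone hK0 u (by omega))).trans le_sup_right

/-- A supplement of `K` gives the bottom layer. -/
theorem tl_zero_le_sup (hK : Nm G₀ K) (hK0 : K ≤ G₀) {N : Subgroup G} (hN : N ≤ G₀)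
    (hsup : G₀ ≤ N ⊔ K) : ∀ u : Word, tl G₀ K u 0 ≤ wsub u N ⊔ tl G₀ K u 1
  | .leaf => hsup
  | .node u v => by
    show (⨆ a : Fin 1, ⁅tl G₀ K u a, tl G₀ K v (0 - a)⁆) ≤ _
    rw [iSup_unique]
    show ⁅tl G₀ K u 0, tl G₀ K v 0⁆ ≤ _
    set M := wsub (.node u v) N ⊔ tl G₀ K (.node u v) 1 with hM
    have hwN : ∀ x : Word, wsub x N ≤ tl G₀ K x 0 := fun x => by
      rw [tl_zero]; exact wsub_mono x hN
    have hT1 : ∀ x : Word, tl G₀ K x 1 ≤ fil G₀ K 1 := fun x => tl_le_fil hK x 1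
    have hnN : Nm N M :=
      nm_sup (nm_wsub (nm_self N) _) (hN.trans (nm_tl (nm_self G₀) hK _ _))
    have hnK : Nm (fil G₀ K 1) M := nm_fil_between hK hK0 _ le_rfl (hwN _)
    have hn : ∀ x : Word, Nm (wsub x N) M := fun x => (wsub_le x N).trans hnN
    have hn1 : ∀ x : Word, Nm (tl G₀ K x 1) M := fun x => (hT1 x).trans hnK
    refine (commutator_mono (tl_zero_le_sup hK hK0 hN hsup u)
      (tl_zero_le_sup hK hK0 hN hsup v)).trans ?_
    refine commutator_sup_left_le ?_ ?_ (hn u) (hn1 u)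
    · refine commutator_sup_right_le le_sup_left (le_trans ?_ le_sup_right) (hn v) (hn1 v)
      exact (commutator_mono (hwN u) le_rfl).trans (tl_node_le (a := 0) (b := 1))
    · refine (commutator_mono le_rfl (sup_le (hwN v) (tl_succ_le hK0 v 0))).trans ?_
      exact (tl_node_le (a := 1) (b := 0)).trans le_sup_right

theorem fil_eventually [Finite G] (hKn : Group.IsNilpotent K) : ∃ n, fil G₀ K n = ⊥ := by
  obtain ⟨n, hn⟩ := (Subgroup.isNilpotent_iff_lowerCentralSeries K).mp hKn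
  exact ⟨n + 1, hn⟩

end Cfsg.Agent.Grp.CW
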