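import Mathlib
import Cfsg.Agent.Lib.Grp.CoprimeWord.Layers
import Cfsg.Agent.Lib.Grp.Coprime
import Cfsg.Agent.Lib.Grp.Cores
import Cfsg.Agent.Lib.Grp.Signalizer

/-!
The value of a commutator tree on a solvable group with a coprime action of an elementary abelian
group is generated by the values on fixed point subgroups, and so are the fixed points in it.
-/

set_option autoImplicit false
set_option maxHeartbeats 400000

namespace Cfsg.Agent.Grp.CW

open Subgroup
open scoped Pointwise commutatorElement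

variable {G : Type*} [Group G] [Finite G] {p : ℕ} [Fact p.Prime] {A : Subgroup G}

theorem not_dvd_of_le {X Y : Subgroup G} (h : X ≤ Y) (hY : ¬ p ∣ Nat.card Y) : ¬ p ∣ Nat.card X :=
  fun hd => hY (hd.trans (Subgroup.card_dvd_of_le h))

theorem isSolvable_elemAb (hA : Cfsg.IsElementaryAbelian p A) : Group.IsSolvable A := by
  letI : CommGroup A := { (inferInstance : Group A) with mul_comm := fun a b => hA.1.1.comm a b }
  infer_instance

theorem nm_centralizer (hA : Cfsg.IsElementaryAbelian p A) {D : Subgroup G} (hD : D ≤ A) :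
    Nm A (centralizer (D : Set G)) := by
  refine le_normalizer_centralizer_of_commute fun x hx y hy => ?_
  first
    | exact elemAb_comm hA _ hx _ (hD hy)
    | exact elemAb_comm hA _ (hD hy) _ hx
    | exact congrArg Subtype.val (hA.1.1.comm ⟨x, hx⟩ ⟨y, hD hy⟩)
    | exact congrArg Subtype.val (hA.1.1.comm ⟨x, hD hx⟩ ⟨y, hy⟩)

/-- Fixed points of a join of two invariant subgroups. -/
theorem fixed_sup (hA : Cfsg.IsElementaryAbelian p A) {D X Y : Subgroup G} (hD : D ≤ A)
    (hX : ¬ p ∣ Nat.card X) (hXY : Nm X Y) (hDX : Nm A X) (hDY : Nm A Y) :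
    (X ⊔ Y) ⊓ centralizer (D : Set G) ≤
      (X ⊓ centralizer (D : Set G)) ⊔ (Y ⊓ centralizer (D : Set G)) := by
  rintro x ⟨hx, hxD⟩
  have hx' : x ∈ ((X ⊔ Y : Subgroup G) : Set G) := hx
  rw [Subgroup.coe_mul_of_left_le_normalizer_right X Y hXY] at hx'
  obtain ⟨a, ha, b, hb, rfl⟩ := Set.mem_mul.mp hx'
  have hfix : ∀ d ∈ D, d * a * d⁻¹ * a⁻¹ ∈ X ⊓ Y := by
    intro d hd
    have h1 : d * (a * b) = a * b * d := Subgroup.mem_centralizer_iff.mp hxD d hd
    have h2 : d * a * d⁻¹ ∈ X := (Subgroup.mem_normalizer_iff.mp (hDX (hD hd)) a).mp ha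
    have h3 : d * b * d⁻¹ ∈ Y := (Subgroup.mem_normalizer_iff.mp (hDY (hD hd)) b).mp hb
    refine Subgroup.mem_inf.mpr ⟨mul_mem h2 (X.inv_mem ha), ?_⟩
    have h4 : d * a * d⁻¹ * a⁻¹ = a * (b * (d * b * d⁻¹)⁻¹) * a⁻¹ := by
      have h5 : d * a * d⁻¹ * (d * b * d⁻¹) = a * b := by
        rw [show d * a * d⁻¹ * (d * b * d⁻¹) = d * (a * b) * d⁻¹ by group, h1, mul_inv_cancel_right]
      rw [← eq_mul_inv_iff_mul_eq] at h5
      rw [h5]; group
    rw [h4]
    exact (Subgroup.mem_normalizer_iff.mp (hXY ha) _).mp (mul_mem hb (Y.inv_mem h3))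
  have hcop : (Nat.card D).Coprime (Nat.card X) :=
    (coprime_elemAb hA hX).coprime_dvd_left (Subgroup.card_dvd_of_le hD)
  obtain ⟨c, hc, hc'⟩ := exists_fixed_rep D X (X ⊓ Y) (hD.trans hDX) (inf_eq_bot_of_coprime hcop)
    (hcop.coprime_dvd_right (Subgroup.card_dvd_of_le inf_le_left))
    (Or.inl (isSolvable_elemAb (elemAb_mono hA hD))) inf_le_left
    (nm_inf (nm_self X) hXY) (hD.trans (nm_inf hDX hDY)) ha hfix
  have h6 : c⁻¹ * (a * b) ∈ Y ⊓ centralizer (D : Set G) := by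
    refine Subgroup.mem_inf.mpr ⟨?_, mul_mem (inv_mem hc.2) hxD⟩
    rw [show c⁻¹ * (a * b) = (a⁻¹ * c)⁻¹ * b by group]
    exact mul_mem (Y.inv_mem (Subgroup.mem_inf.mp hc').2) hb
  rw [show a * b = c * (c⁻¹ * (a * b)) by group]
  exact Subgroup.mul_mem_sup hc h6

/-- Fixed points of a join of several invariant subgroups normalizing each other. -/
theorem fixed_finset_sup (hA : Cfsg.IsElementaryAbelian p A) {ι : Type*} {D : Subgroup G} (hD : D ≤ A)
    (S : Finset ι) (X : ι → Subgroup G) (Z : Subgroup G) (hp : ∀ i ∈ S, ¬ p ∣ Nat.card (X i))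
    (hnn : ∀ i ∈ S, ∀ j ∈ S, Nm (X i) (X j)) (hnZ : ∀ i ∈ S, Nm (X i) Z)
    (hAX : ∀ i ∈ S, Nm A (X i)) (hAZ : Nm A Z) :
    ((⨆ i ∈ S, X i) ⊔ Z) ⊓ centralizer (D : Set G) ≤
      (⨆ i ∈ S, X i ⊓ centralizer (D : Set G)) ⊔ (Z ⊓ centralizer (D : Set G)) := by
  classical
  induction S using Finset.induction_on with
  | empty => simp
  | @insert k S hk ih =>
    have hS : ∀ i ∈ S, i ∈ insert k S := fun i hi => Finset.mem_insert_of_mem hi
    have hk' := Finset.mem_insert_self k S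
    rw [Finset.iSup_insert, Finset.iSup_insert, sup_assoc, sup_assoc]
    refine (fixed_sup hA hD (hp k hk') ?_ (hAX k hk') ?_).trans
      (sup_le_sup_left (ih (fun i hi => hp i (hS i hi)) (fun i hi j hj => hnn i (hS i hi) j (hS j hj))
        (fun i hi => hnZ i (hS i hi)) (fun i hi => hAX i (hS i hi))) _)
    · exact nm_sup (nm_iSup fun i => nm_iSup fun hi => hnn k hk' i (hS i hi)) (hnZ k hk')
    · exact nm_sup (nm_iSup fun i => nm_iSup fun hi => hAX i (hS i hi)) hAZ

/-- A maximal nilpotent invariant normal subgroup has a proper invariant supplement. -/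
theorem exists_supplement (hA : Cfsg.IsElementaryAbelian p A) {G₀ : Subgroup G}
    (hp : ¬ p ∣ Nat.card G₀) (hsol : Group.IsSolvable G₀) (hne : G₀ ≠ ⊥) (hAG : Nm A G₀) :
    ∃ K N : Subgroup G, K ≤ G₀ ∧ Nm G₀ K ∧ Nm A K ∧ Group.IsNilpotent K ∧
      N ≤ G₀ ∧ Nm A N ∧ G₀ ≤ N ⊔ K ∧ Nat.card N < Nat.card G₀ := by
  classical
  obtain ⟨K, ⟨hKG, hKn, hKA, hKnil⟩, hKmax⟩ := (Set.toFinite
    {K : Subgroup G | K ≤ G₀ ∧ Nm G₀ K ∧ Nm A K ∧ Group.IsNilpotent K}).exists_maximal
    ⟨⊥, bot_le, nm_normal _ _, nm_normal _ _, inferInstance⟩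
  rcases eq_or_ne K G₀ with hK | hK
  · refine ⟨K, ⊥, hKG, hKn, hKA, hKnil, bot_le, nm_normal _ _, by rw [bot_sup_eq, hK], ?_⟩
    rw [Subgroup.card_bot]
    exact (Subgroup.one_lt_card_iff_ne_bot G₀).mpr hne
  obtain ⟨M, ⟨hKM, hMG, hMn, hMA⟩, hMmin⟩ := (Set.toFinite
    {M : Subgroup G | K < M ∧ M ≤ G₀ ∧ Nm G₀ M ∧ Nm A M}).exists_minimal
    ⟨G₀, lt_of_le_of_ne hKG hK, le_rfl, nm_self _, hAG⟩
  have hab : ⁅M, M⁆ ≤ K := by
    by_contra hc
    have hle : ⁅M, M⁆ ⊔ K ≤ M := sup_le (nm_iff.mp (nm_self M)) hKM.le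
    have heq : ⁅M, M⁆ ⊔ K = M := le_antisymm hle (hMmin
      ⟨lt_of_le_of_ne le_sup_right (fun e => hc (le_sup_left.trans e.ge)), hle.trans hMG,
        nm_sup (nm_commutator hMn hMn) hKn, nm_sup (nm_commutator hMA hMA) hKA⟩ hle)
    have hder : ∀ i, M ≤ dser M i ⊔ K := by
      intro i
      induction i with
      | zero => exact le_sup_left
      | succ i ih =>
        conv_lhs => rw [← heq]
        refine sup_le ((commutator_mono ih ih).trans ?_) le_sup_right
        have hMK : Nm M K := hMG.trans hKn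
        have hd : Nm (dser M i) (dser M (i + 1) ⊔ K) :=
          nm_sup (nm_left _ _) ((dser_le M i).trans hMK)
        refine commutator_sup_left_le (commutator_sup_right_le le_sup_left ?_ hd (nm_of_le le_sup_right))
          ((commutator_mono le_rfl (sup_le (dser_le M i) hKM.le)).trans
            ((nm_iff.mp hMK).trans le_sup_right)) hd (nm_of_le le_sup_right)
        rw [commutator_comm]
        exact ((commutator_mono le_rfl (dser_le M i)).trans (nm_iff.mp hMK)).trans le_sup_right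
    have : Group.IsSolvable M := isSolvable_of_le hMG hsol
    obtain ⟨n, hn⟩ := (Group.isSolvable_def M).mp this
    have h1 := hder n
    rw [dser_eq_map, hn, Subgroup.map_bot, bot_sup_eq] at h1
    exact absurd h1 (not_le_of_gt hKM)
  obtain ⟨r, hr, hrd⟩ := Nat.exists_prime_and_dvd (n := K.relIndex M)
    (fun h => absurd (Subgroup.relIndex_eq_one.mp h) (not_le_of_gt hKM))
  haveI := Fact.mk hr
  obtain ⟨P, hP, hPA⟩ := exists_invariant_sylow A M hMA
    ((coprime_elemAb hA hp).coprime_dvd_right (Subgroup.card_dvd_of_le hMG))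
    (Or.inl (isSolvable_elemAb hA)) r
  have hPK : ¬ P ≤ K := fun h => hP.2.2 (hrd.trans
    (Dvd.intro_left _ (Subgroup.relIndex_mul_relIndex P K M h hKM.le)))
  have hKPn : Nm G₀ (K ⊔ P) := by
    rw [nm_iff_map]
    intro g hg
    rw [Subgroup.map_sup]
    refine sup_le ((nm_iff_map.mp hKn g hg).trans le_sup_left) ?_
    have hgM : MulAut.conj g • M = M := normalizer_le_smul hMn hg
    obtain ⟨m, hm, hmP⟩ := hP.conj (hP.smul hgM)
    rintro _ ⟨x, hx, rfl⟩
    have h1 : g * x * g⁻¹ ∈ MulAut.conj g • P :=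
      Subgroup.mem_smul_pointwise_iff_exists _ _ _ |>.mpr ⟨x, hx, rfl⟩
    rw [← hmP] at h1
    obtain ⟨y, hy, e⟩ := (Subgroup.mem_smul_pointwise_iff_exists _ _ _).mp h1
    show g * x * g⁻¹ ∈ K ⊔ P
    rw [← e]
    show m * y * m⁻¹ ∈ K ⊔ P
    rw [show m * y * m⁻¹ = ⁅m, y⁆ * y by simp only [commutatorElement_def]; group]
    exact mul_mem (Subgroup.mem_sup_left (hab (commutator_mem_commutator hm (hP.1 hy))))
      (Subgroup.mem_sup_right hy)
  have hMeq : K ⊔ P = M := le_antisymm (sup_le hKM.le hP.1) (hMmin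
    ⟨lt_of_le_of_ne le_sup_left (fun e => hPK (le_sup_right.trans e.ge)),
      (sup_le hKM.le hP.1).trans hMG, hKPn, nm_sup hKA hPA⟩ (sup_le hKM.le hP.1))
  refine ⟨K, G₀ ⊓ Subgroup.normalizer (P : Set G), hKG, hKn, hKA, hKnil, inf_le_left,
    nm_inf hAG ((le_inf le_rfl hPA).trans inf_le_right |>.trans Subgroup.le_normalizer), ?_, ?_⟩
  · intro g hg
    have hgM : MulAut.conj g • M = M := normalizer_le_smul hMn hg
    obtain ⟨m, hm, hmP⟩ := hP.conj (hP.smul hgM)
    have hm' : m ∈ ((K ⊔ P : Subgroup G) : Set G) := by rw [hMeq]; exact hm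
    rw [Subgroup.coe_mul_of_right_le_normalizer_left K P ((hP.1.trans hMG).trans hKn)] at hm'
    obtain ⟨k, hk, q, hq, rfl⟩ := Set.mem_mul.mp hm'
    rw [map_mul, mul_smul, conj_smul_eq_self_of_mem hq] at hmP
    have hN : k⁻¹ * g ∈ G₀ ⊓ Subgroup.normalizer (P : Set G) := by
      refine Subgroup.mem_inf.mpr ⟨mul_mem (inv_mem (hKG hk)) hg, mem_normalizer_iff_smul.mpr ?_⟩
      rw [map_mul, mul_smul, ← hmP, ← mul_smul, ← map_mul, inv_mul_cancel, map_one, one_smul]
    rw [show g = k * (k⁻¹ * g) by group]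
    exact mul_mem (Subgroup.mem_sup_right hk) (Subgroup.mem_sup_left hN)
  · refine lt_of_le_of_ne (Subgroup.card_le_of_le inf_le_left) fun e => ?_
    have hPn : Nm G₀ P := (Subgroup.eq_of_le_of_card_ge inf_le_left e.ge).ge.trans inf_le_right
    refine hPK (le_sup_right.trans (hKmax ⟨sup_le hKG (hP.1.trans hMG), hKPn, nm_sup hKA hPA, ?_⟩
      le_sup_left))
    haveI : (K.subgroupOf G₀).Normal := (Subgroup.normal_subgroupOf_iff_le_normalizer hKG).mpr hKn
    haveI : (P.subgroupOf G₀).Normal :=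
      (Subgroup.normal_subgroupOf_iff_le_normalizer (hP.1.trans hMG)).mpr hPn
    have hPnil : Group.IsNilpotent P := hP.2.1.isNilpotent
    have h := isNilpotent_sup_normal (K.subgroupOf G₀) (P.subgroupOf G₀)
      (Group.nilpotent_of_mulEquiv (Subgroup.subgroupOfEquivOfLe hKG).symm)
      (Group.nilpotent_of_mulEquiv (Subgroup.subgroupOfEquivOfLe (hP.1.trans hMG)).symm)
    rw [← Subgroup.subgroupOf_sup hKG (hP.1.trans hMG)] at h
    exact Group.nilpotent_of_mulEquiv (Subgroup.subgroupOfEquivOfLe (sup_le hKG (hP.1.trans hMG)))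

/-- The members of the indexing family of a tree. -/
noncomputable def Fam (p : ℕ) (A : Subgroup G) (u : Word) : Finset (Subgroup G) :=
  (Set.toFinite {B : Subgroup G | B ≤ A ∧ B.relIndex A ≤ p ^ u.size}).toFinset

theorem mem_fam {u : Word} {B : Subgroup G} :
    B ∈ Fam p A u ↔ B ≤ A ∧ B.relIndex A ≤ p ^ u.size := by
  simp [Fam]

theorem inf_mem_fam {u v : Word} {B C : Subgroup G} (hB : B ∈ Fam p A u) (hC : C ∈ Fam p A v) :
    B ⊓ C ∈ Fam p A (.node u v) := by
  rw [mem_fam] at hB hC ⊢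
  refine ⟨inf_le_left.trans hB.1, Subgroup.relIndex_inf_le.trans ?_⟩
  show _ ≤ p ^ (u.size + v.size)
  rw [pow_add]
  exact Nat.mul_le_mul hB.2 hC.2

/-- The value of a tree on the fixed points of `B`. -/
abbrev Wv (u : Word) (G₀ B : Subgroup G) : Subgroup G := wsub u (G₀ ⊓ centralizer (B : Set G))

theorem wv_commutator_le {u v : Word} (G₀ : Subgroup G) (B C : Subgroup G) :
    ⁅Wv u G₀ B, Wv v G₀ C⁆ ≤ Wv (.node u v) G₀ (B ⊓ C) :=
  commutator_mono (wsub_mono u (inf_le_inf le_rfl (Subgroup.centralizer_le inf_le_left)))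
    (wsub_mono v (inf_le_inf le_rfl (Subgroup.centralizer_le inf_le_right)))

theorem nm_wv (hA : Cfsg.IsElementaryAbelian p A) {G₀ : Subgroup G} (hAG : Nm A G₀) {u : Word}
    {B : Subgroup G} (hB : B ∈ Fam p A u) : Nm A (Wv u G₀ B) :=
  nm_wsub (nm_inf hAG (nm_centralizer hA (mem_fam.mp hB).1)) u

section Cover

variable {G₀ K : Subgroup G}

theorem leaf_cover (hA : Cfsg.IsElementaryAbelian p A) (hA1 : A ≠ ⊥) {X : Subgroup G}
    (hX : ¬ p ∣ Nat.card X) (hAX : Nm A X) (hXG : X ≤ G₀) :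
    X ≤ ⨆ B ∈ Fam p A Word.leaf, X ⊓ Wv Word.leaf G₀ B :=
  le_of_hyperplanes hA hA1 X hX hAX fun D hD hi =>
    le_trans (le_inf inf_le_left (inf_le_inf_right _ hXG))
      (le_iSup₂ (f := fun B (_ : B ∈ Fam p A Word.leaf) => X ⊓ Wv Word.leaf G₀ B) D
        (mem_fam.mpr ⟨hD, by simp [Word.size, hi]⟩))

/-- A bottom layer bracketed with a higher one. -/
theorem bottom_bracket_le (hK : Nm G₀ K) (hK0 : K ≤ G₀) {u w : Word} {j : ℕ} (hj : 1 ≤ j)
    {S : Finset (Subgroup G)} {P : Subgroup G → Subgroup G} {Y Z : Subgroup G}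
    (hY : Y ≤ tl G₀ K u j) (hYw : ⁅wsub w G₀, Y⁆ ≤ Y)
    (hgen : wsub w G₀ ≤ ⨆ B ∈ S, P B)
    (hPY : ∀ B ∈ S, ⁅P B, Y⁆ ≤ Z) (hPw : ∀ B ∈ S, P B ≤ wsub w G₀) :
    ⁅wsub w G₀, Y⁆ ≤ Z := by
  rw [commutator_le]
  intro g hg y hy
  suffices h : g ∈ wsub w G₀ ∧ ∀ m ∈ Y, ⁅g, m⁆ ∈ Z from h.2 y hy
  have hg' : g ∈ ⨆ i : {B // B ∈ S}, P i := by
    refine ((hgen.trans ?_) hg)
    exact iSup₂_le fun B hB => le_iSup (fun i : {B // B ∈ S} => P i) ⟨B, hB⟩
  clear hg hy
  induction hg' using Subgroup.iSup_induction' with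
  | hp i x hx =>
    exact ⟨hPw _ i.2 hx, fun m hm => hPY _ i.2 (commutator_mem_commutator hx hm)⟩
  | h1 => exact ⟨one_mem _, fun m _ => by simp⟩
  | hmul a b _ _ ha hb =>
    refine ⟨mul_mem ha.1 hb.1, fun m hm => ?_⟩
    have h1 : ⁅b, m⁆ ∈ Y := hYw (commutator_mem_commutator hb.1 hm)
    rw [show ⁅a * b, m⁆ = ⁅a, ⁅b, m⁆⁆ * ⁅b, m⁆ * ⁅a, m⁆ by simp only [commutatorElement_def]; group]
    exact mul_mem (mul_mem (ha.2 _ h1) (hb.2 m hm)) (ha.2 m hm)

/-- The positive layers are covered by values on fixed points. -/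
theorem layer_cover (hA : Cfsg.IsElementaryAbelian p A) (hA1 : A ≠ ⊥) (hp : ¬ p ∣ Nat.card G₀)
    (hAG : Nm A G₀) (hK : Nm G₀ K) (hKA : Nm A K) (hK0 : K ≤ G₀) :
    ∀ u : Word, (∀ v : Word, v.size < u.size → wsub v G₀ ≤ ⨆ B ∈ Fam p A v, Wv v G₀ B) →
      ∀ j, 1 ≤ j →
        tl G₀ K u j ≤ (⨆ B ∈ Fam p A u, tl G₀ K u j ⊓ Wv u G₀ B) ⊔ tl G₀ K u (j + 1) := by
  intro u
  induction u with
  | leaf =>
    intro _ j _
    exact (leaf_cover hA hA1 (not_dvd_of_le (tl_le hK hK0 .leaf j) hp) (nm_tl hAG hKA .leaf j)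
      (tl_le hK hK0 .leaf j)).trans le_sup_left
  | node u v ihu ihv =>
    intro hgen j hj
    set w := Word.node u v
    set Z := (⨆ B ∈ Fam p A w, tl G₀ K w j ⊓ Wv w G₀ B) ⊔ tl G₀ K w (j + 1) with hZ
    have hsu : u.size < w.size := Nat.lt_add_of_pos_right v.size_pos
    have hsv : v.size < w.size := Nat.lt_add_of_pos_left u.size_pos
    have hnZ : ∀ c, 1 ≤ c → Nm (fil G₀ K c) Z := fun c hc =>
      nm_fil_between hK hK0 w hc (iSup₂_le fun B _ => inf_le_left)
    have hu := ihu fun x hx => hgen x (hx.trans hsu)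
    have hv := ihv fun x hx => hgen x (hx.trans hsv)
    have hpiece : ∀ {a b : ℕ} {B C X Y : Subgroup G}, a + b = j → B ∈ Fam p A u → C ∈ Fam p A v →
        X ≤ tl G₀ K u a → X ≤ Wv u G₀ B → Y ≤ tl G₀ K v b → Y ≤ Wv v G₀ C → ⁅X, Y⁆ ≤ Z :=
      fun {a b B C X Y} hab hB hC hX hX' hY hY' => le_trans
        (le_inf ((commutator_mono hX hY).trans (tl_node_le.trans (le_of_eq (by rw [hab]))))
          ((commutator_mono hX' hY').trans (wv_commutator_le G₀ B C)))
        ((le_iSup₂ (f := fun D (_ : D ∈ Fam p A w) => tl G₀ K w j ⊓ Wv w G₀ D) (B ⊓ C)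
          (inf_mem_fam hB hC)).trans le_sup_left)
    have hdeep : ∀ {a b : ℕ}, j + 1 ≤ a + b → ⁅tl G₀ K u a, tl G₀ K v b⁆ ≤ Z := fun {a b} h =>
      (tl_node_le.trans (tl_antitone hK0 w h)).trans le_sup_right
    have hwv : ∀ (x : Word) (B : Subgroup G), Wv x G₀ B ≤ wsub x G₀ := fun x B =>
      wsub_mono x inf_le_left
    refine iSup_le fun i => ?_
    obtain ⟨a, ha⟩ := i
    show ⁅tl G₀ K u a, tl G₀ K v (j - a)⁆ ≤ Z
    have haj : a ≤ j := by omega
    rcases Nat.eq_zero_or_pos a with h0 | h0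
    · -- the left entry is in the bottom layer
      subst h0
      rw [Nat.sub_zero, tl_zero]
      refine bottom_bracket_le hK hK0 (u := v) hj le_rfl ?_ (hgen u hsu) (fun B hB => ?_)
        (fun B _ => hwv u B)
      · rw [commutator_comm, ← nm_iff]
        exact (wsub_le u G₀).trans (nm_tl (nm_self G₀) hK v j)
      · refine (commutator_mono le_rfl (hv j hj)).trans ?_
        have hW0 : Wv u G₀ B ≤ tl G₀ K u 0 := (hwv u B).trans (tl_zero u).ge
        rw [commutator_comm]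
        refine commutator_sup_left_le (commutator_iSup_left_le (fun C => ?_) fun C => ?_) ?_ ?_ ?_
        · refine commutator_iSup_left_le (fun hC => ?_) fun hC => ?_
          · rw [commutator_comm]
            exact hpiece (Nat.zero_add j) hB hC hW0 le_rfl inf_le_left inf_le_right
          · exact (inf_le_left.trans (tl_le_fil hK v j)).trans (hnZ j hj)
        · exact iSup_le fun hC => (inf_le_left.trans (tl_le_fil hK v j)).trans (hnZ j hj)
        · rw [commutator_comm]
          exact (commutator_mono hW0 le_rfl).trans (hdeep (by omega))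
        · exact iSup₂_le fun C _ => (inf_le_left.trans (tl_le_fil hK v j)).trans (hnZ j hj)
        · exact (tl_le_fil hK v (j + 1)).trans (hnZ _ (by omega))
    rcases Nat.eq_zero_or_pos (j - a) with h1 | h1
    · -- the right entry is in the bottom layer
      have hja : a = j := by omega
      subst hja
      rw [Nat.sub_self, tl_zero, commutator_comm]
      refine bottom_bracket_le hK hK0 (u := u) hj le_rfl ?_ (hgen v hsv) (fun C hC => ?_)
        (fun B _ => hwv v B)
      · rw [commutator_comm, ← nm_iff]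
        exact (wsub_le v G₀).trans (nm_tl (nm_self G₀) hK u a)
      · rw [commutator_comm]
        refine (commutator_mono (hu a hj) le_rfl).trans ?_
        have hW0 : Wv v G₀ C ≤ tl G₀ K v 0 := (hwv v C).trans (tl_zero v).ge
        refine commutator_sup_left_le (commutator_iSup_left_le (fun B => ?_) fun B => ?_) ?_ ?_ ?_
        · refine commutator_iSup_left_le (fun hB => ?_) fun hB => ?_
          · exact hpiece (Nat.add_zero a) hB hC inf_le_left inf_le_right hW0 le_rfl
          · exact (inf_le_left.trans (tl_le_fil hK u a)).trans (hnZ a hj)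
        · exact iSup_le fun hB => (inf_le_left.trans (tl_le_fil hK u a)).trans (hnZ a hj)
        · exact (commutator_mono le_rfl hW0).trans (hdeep (by omega))
        · exact iSup₂_le fun B _ => (inf_le_left.trans (tl_le_fil hK u a)).trans (hnZ a hj)
        · exact (tl_le_fil hK u (a + 1)).trans (hnZ _ (by omega))
    -- both entries are positive
    set b := j - a
    have hab : a + b = j := by omega
    have hnu : ∀ B, Nm (tl G₀ K u a ⊓ Wv u G₀ B) Z := fun B =>
      (inf_le_left.trans (tl_le_fil hK u a)).trans (hnZ a h0)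
    have hnv : ∀ C, Nm (tl G₀ K v b ⊓ Wv v G₀ C) Z := fun C =>
      (inf_le_left.trans (tl_le_fil hK v b)).trans (hnZ b h1)
    refine (commutator_mono (hu a h0) (hv b h1)).trans ?_
    refine commutator_sup_left_le (commutator_iSup_left_le (fun B => ?_) fun B => ?_) ?_ ?_ ?_
    · refine commutator_iSup_left_le (fun hB => ?_) fun _ => hnu B
      rw [commutator_comm]
      refine commutator_sup_left_le (commutator_iSup_left_le (fun C => ?_) fun C => ?_) ?_ ?_ ?_
      · refine commutator_iSup_left_le (fun hC => ?_) fun _ => hnv C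
        rw [commutator_comm]
        exact hpiece hab hB hC inf_le_left inf_le_right inf_le_left inf_le_right
      · exact iSup_le fun _ => hnv C
      · rw [commutator_comm]
        exact (commutator_mono inf_le_left le_rfl).trans (hdeep (by omega))
      · exact iSup₂_le fun C _ => hnv C
      · exact (tl_le_fil hK v _).trans (hnZ _ (by omega))
    · exact iSup_le fun _ => hnu B
    · refine (commutator_mono le_rfl (sup_le (iSup₂_le fun C _ => inf_le_left)
        (tl_succ_le hK0 v b))).trans (hdeep (by omega))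
    · exact iSup₂_le fun B _ => hnu B
    · exact (tl_le_fil hK u _).trans (hnZ _ (by omega))

/-- The generation theorem, for the fixed points of any subgroup of `A`. -/
theorem wsub_fixed_le (hA : Cfsg.IsElementaryAbelian p A) (hA1 : A ≠ ⊥) :
    ∀ (n : ℕ) (G₀ : Subgroup G), Nat.card G₀ = n → ¬ p ∣ Nat.card G₀ → Group.IsSolvable G₀ →
      Nm A G₀ → ∀ (u : Word) (D : Subgroup G), D ≤ A →
        wsub u G₀ ⊓ centralizer (D : Set G) ≤
          ⨆ B ∈ Fam p A u, Wv u G₀ B ⊓ centralizer (D : Set G) := by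
  classical
  intro n
  induction n using Nat.strong_induction_on with
  | _ n ihn =>
  intro G₀ hn hp hsol hAG u
  rcases eq_or_ne G₀ ⊥ with h0 | h0
  · intro D _
    exact (inf_le_left.trans ((wsub_le u G₀).trans h0.le)).trans bot_le
  obtain ⟨K, N, hK0, hK, hKA, hKnil, hN0, hNA, hsup, hlt⟩ := exists_supplement hA hp hsol h0 hAG
  induction hsz : u.size using Nat.strong_induction_on generalizing u with
  | _ s ihs =>
  intro D hD
  have hgen : ∀ v : Word, v.size < u.size → wsub v G₀ ≤ ⨆ B ∈ Fam p A v, Wv v G₀ B := fun v hv => by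
    refine le_trans (le_inf le_rfl ?_) ((ihs v.size (hsz ▸ hv) v rfl ⊥ bot_le).trans
      (iSup₂_mono fun B _ => inf_le_left))
    intro x _
    exact Subgroup.mem_centralizer_iff.mpr fun y hy => by
      rw [SetLike.mem_coe, Subgroup.mem_bot] at hy; simp [hy]
  obtain ⟨m, hm⟩ := fil_eventually (G₀ := G₀) hKnil
  set T := ⨆ B ∈ Fam p A u, Wv u G₀ B ⊓ centralizer (D : Set G)
  have hlay : ∀ d j, 1 ≤ j → m ≤ j + d → tl G₀ K u j ⊓ centralizer (D : Set G) ≤ T := by
    intro d
    induction d with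
    | zero =>
      intro j _ hmj
      refine (inf_le_left.trans ((tl_antitone hK0 u hmj).trans ?_)).trans bot_le
      exact (tl_le_fil hK u m).trans hm.le
    | succ d ihd =>
      intro j hj hmj
      set Y := fun B => tl G₀ K u j ⊓ Wv u G₀ B
      have hYn : ∀ B, Y B ≤ tl G₀ K u j := fun B => inf_le_left
      set Z := tl G₀ K u (j + 1)
      have hnZ : Nm A Z := nm_tl hAG hKA u _
      have hXn : ∀ B C, Nm (Y B ⊔ Z) (Y C ⊔ Z) := fun B C =>
        ((sup_le (hYn B) (tl_succ_le hK0 u j)).trans (tl_le_fil hK u j)).trans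
          (nm_fil_between hK hK0 u hj (hYn C))
      have hYZ : ∀ B, Nm (Y B ⊔ Z) Z := fun B =>
        (sup_le ((hYn B).trans (tl_le hK hK0 u j)) (tl_le hK hK0 u _)).trans
          (nm_tl (nm_self G₀) hK u _)
      refine (inf_le_inf_right _ ((layer_cover hA hA1 hp hAG hK hKA hK0 u hgen j hj).trans
        (sup_le_sup_right (iSup₂_mono fun B _ => (le_sup_left : Y B ≤ Y B ⊔ Z)) Z))).trans ?_
      refine (fixed_finset_sup hA hD (Fam p A u) (fun B => Y B ⊔ Z) Z
        (fun B _ => not_dvd_of_le (sup_le ((hYn B).trans (tl_le hK hK0 u j)) (tl_le hK hK0 u _)) hp)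
        (fun B _ C _ => hXn B C) (fun B _ => hYZ B)
        (fun B hB => nm_sup (nm_inf (nm_tl hAG hKA u j) (nm_wv hA hAG hB)) hnZ) hnZ).trans ?_
      refine sup_le (iSup₂_le fun B hB => ?_) (ihd (j + 1) (by omega) (by omega))
      refine (fixed_sup hA hD (not_dvd_of_le ((hYn B).trans (tl_le hK hK0 u j)) hp) ?_
        (nm_inf (nm_tl hAG hKA u j) (nm_wv hA hAG hB)) hnZ).trans
        (sup_le ?_ (ihd (j + 1) (by omega) (by omega)))
      · exact (le_sup_left : Y B ≤ Y B ⊔ Z).trans (hYZ B)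
      · exact le_trans (inf_le_inf_right _ inf_le_right)
          (le_iSup₂ (f := fun B (_ : B ∈ Fam p A u) => Wv u G₀ B ⊓ centralizer (D : Set G)) B hB)
  refine (inf_le_inf_right _ ((tl_zero u).ge.trans (tl_zero_le_sup hK hK0 hN0 hsup u))).trans ?_
  refine (fixed_sup hA hD (not_dvd_of_le ((wsub_le u N).trans hN0) hp) ?_ (nm_wsub hNA u)
    (nm_tl hAG hKA u 1)).trans (sup_le ?_ (hlay m 1 le_rfl (by omega)))
  · exact ((wsub_le u N).trans hN0).trans (nm_tl (nm_self G₀) hK u 1)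
  · refine (ihn _ (hn ▸ hlt) N rfl (not_dvd_of_le hN0 hp) (isSolvable_of_le hN0 hsol) hNA u D hD).trans
      (iSup₂_mono fun B _ => inf_le_inf_right _ (wsub_mono u (inf_le_inf_right _ hN0)))

end Cover

end Cfsg.Agent.Grp.CW
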