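import Mathlib
import Cfsg.Agent.Lib.Grp.CoprimeWord.Cover
import Cfsg.Agent.Lib.Transfer.SFT.Main

/-!
Nilpotency of the value of a tree and bounds for the class of its fixed point subgroups.
-/

set_option autoImplicit false
set_option maxHeartbeats 400000

namespace Cfsg.Agent.Grp.CW

open Subgroup
open scoped Pointwise commutatorElement

variable {G : Type*} [Group G]

theorem com_self_eq_lcs (X : Subgroup G) : ∀ n, com X X n = X.lowerCentralSeries n
  | 0 => rfl
  | n + 1 => by rw [com_succ, com_self_eq_lcs X n]; rfl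

theorem com_bot (Y : Subgroup G) : ∀ n, com ⊥ Y n = ⊥
  | 0 => rfl
  | n + 1 => by rw [com_succ, com_bot Y n, Subgroup.commutator_bot_left]

theorem com_map {H : Type*} [Group H] (f : G →* H) (X Y : Subgroup G) :
    ∀ n, (com X Y n).map f = com (X.map f) (Y.map f) n
  | 0 => rfl
  | n + 1 => by rw [com_succ, com_succ, map_commutator, com_map f X Y n]

theorem dser_mono {X Y : Subgroup G} (h : X ≤ Y) : ∀ n, dser X n ≤ dser Y n
  | 0 => h
  | n + 1 => commutator_mono (dser_mono h n) (dser_mono h n)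

theorem dser_dser (X : Subgroup G) (m : ℕ) : ∀ n, dser (dser X m) n = dser X (m + n)
  | 0 => rfl
  | n + 1 => congrArg₂ (fun P Q : Subgroup G => ⁅P, Q⁆) (dser_dser X m n) (dser_dser X m n)

theorem dser_le_lcs (X : Subgroup G) : ∀ n, dser X n ≤ X.lowerCentralSeries n
  | 0 => le_rfl
  | n + 1 => commutator_mono (dser_le_lcs X n) ((dser_le_lcs X n).trans (X.lowerCentralSeries_le_self n))

theorem nm_dser {R X : Subgroup G} (h : Nm R X) : ∀ n, Nm R (dser X n)
  | 0 => h
  | n + 1 => nm_commutator (nm_dser h n) (nm_dser h n)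

/-- The hypotheses: a coprime action with all tree values on centralizers nilpotent of bounded
class. -/
structure Cfg (p : ℕ) (A G₀ : Subgroup G) (w : Word) (c : ℕ) : Prop where
  elem : Cfsg.IsElementaryAbelian p A
  big : p ^ (w.size + 2) ≤ Nat.card A
  cop : ¬ p ∣ Nat.card G₀
  inv : Nm A G₀
  hyp : ∀ a ∈ A, a ≠ 1 →
    (wsub w (G₀ ⊓ centralizer ({a} : Set G))).lowerCentralSeries c = ⊥

/-- Hyperplanes. -/
noncomputable abbrev HP [Finite G] (p : ℕ) (A : Subgroup G) : Finset (Subgroup G) :=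
  Fam p A Word.leaf

/-- The nontrivial elements of a subgroup. -/
noncomputable def nz [Finite G] (D : Subgroup G) : Finset G :=
  (Set.toFinite {a : G | a ∈ D ∧ a ≠ 1}).toFinset

theorem mem_nz [Finite G] {D : Subgroup G} {a : G} : a ∈ nz D ↔ a ∈ D ∧ a ≠ 1 := by simp [nz]

theorem card_nz_le [Finite G] {D A : Subgroup G} (h : D ≤ A) : (nz D).card ≤ Nat.card A := by
  classical
  rw [← Nat.card_eq_finsetCard]
  exact Nat.card_le_card_of_injective (fun a => (⟨a.1, h (mem_nz.mp a.2).1⟩ : A))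
    fun a b e => Subtype.ext (by simpa using e)

theorem card_fam_le [Finite G] {p : ℕ} {A : Subgroup G} (u : Word) :
    (Fam p A u).card ≤ 2 ^ Nat.card A := by
  classical
  haveI := Fintype.ofFinite A
  have h : Nat.card {B : Subgroup G // B ∈ Fam p A u} ≤ Nat.card (Set A) := by
    refine Nat.card_le_card_of_injective (fun B => {x : A | (x : G) ∈ B.1}) fun B C e => Subtype.ext ?_
    have key : ∀ (B C : {B : Subgroup G // B ∈ Fam p A u}),
        {x : A | (x : G) ∈ B.1} = {x : A | (x : G) ∈ C.1} → B.1 ≤ C.1 := fun B C e x hx =>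
      (Set.ext_iff.mp e ⟨x, ((Set.Finite.mem_toFinset _).mp B.2).1 hx⟩).mp hx
    exact le_antisymm (key B C e) (key C B e.symm)
  rw [Nat.card_eq_finsetCard, Nat.card_eq_fintype_card (α := Set A), Fintype.card_set,
    ← Nat.card_eq_fintype_card] at h
  exact h

variable [Finite G] {p : ℕ} [Fact p.Prime] {A G₀ : Subgroup G} {w : Word} {c : ℕ}

theorem Cfg.ne_bot (h : Cfg p A G₀ w c) : A ≠ ⊥ :=
  ne_bot_of_card (n := w.size + 2) (by omega) h.big

/-- The value of the tree. -/
abbrev valH (G₀ : Subgroup G) (w : Word) : Subgroup G := wsub w G₀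

theorem Cfg.meet (h : Cfg p A G₀ w c) {B D : Subgroup G} (hB : B ∈ Fam p A w) (hD : D ∈ HP p A) :
    ∃ a ∈ B ⊓ D, a ≠ 1 := by
  refine (Subgroup.bot_or_exists_ne_one (B ⊓ D)).resolve_left fun e => ?_
  have h1 := (mem_fam.mp (inf_mem_fam hB hD)).2
  rw [e, Subgroup.relIndex_bot_left] at h1
  have h2 : p ^ (w.size + 2) ≤ p ^ (w.size + 1) := h.big.trans h1
  exact absurd h2 (not_le.mpr (Nat.pow_lt_pow_right (Fact.out : p.Prime).one_lt (by omega)))

theorem centralizer_le_singleton {D : Subgroup G} {a : G} (ha : a ∈ D) :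
    centralizer (D : Set G) ≤ centralizer ({a} : Set G) :=
  Subgroup.centralizer_le (Set.singleton_subset_iff.mpr ha)

theorem inf_centralizer_le {B : Subgroup G} {a : G} (ha : a ∈ B) :
    G₀ ⊓ centralizer (B : Set G) ≤ G₀ ⊓ centralizer ({a} : Set G) :=
  inf_le_inf_left _ (centralizer_le_singleton ha)

theorem wv_le {B : Subgroup G} {a : G} (ha : a ∈ B) :
    Wv w G₀ B ≤ wsub w (G₀ ⊓ centralizer ({a} : Set G)) :=
  wsub_mono w (inf_centralizer_le ha)

theorem Cfg.engel (h : Cfg p A G₀ w c) {a : G} (ha : a ∈ A) (ha1 : a ≠ 1) {X Y : Subgroup G}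
    (hX : X ≤ G₀ ⊓ centralizer ({a} : Set G))
    (hY : Y ≤ wsub w (G₀ ⊓ centralizer ({a} : Set G))) : com X Y (c + 1) = ⊥ := by
  refine le_bot_iff.mp ((com_mono hX hY _).trans ?_)
  rw [show c + 1 = 1 + c by omega, ← com_com, ← h.hyp a ha ha1, ← com_self_eq_lcs]
  refine com_mono ?_ le_rfl c
  rw [com_succ, com_zero, commutator_comm]
  exact nm_iff.mp (nm_wsub (nm_self _) w)

theorem Cfg.engel_hp (h : Cfg p A G₀ w c) {B D : Subgroup G} (hB : B ∈ Fam p A w)
    (hD : D ∈ HP p A) : com (G₀ ⊓ centralizer (D : Set G)) (Wv w G₀ B) (c + 1) = ⊥ := by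
  obtain ⟨a, ha, ha1⟩ := h.meet hB hD
  exact h.engel ((mem_fam.mp hB).1 ha.1) ha1 (inf_centralizer_le ha.2) (wv_le ha.1)

theorem Cfg.solvable (h : Cfg p A G₀ w c) : Group.IsSolvable G₀ := by
  refine Transfer.SFT.solvable_of_centralizers h.elem ?_ h.inv h.cop fun a ha ha1 => ?_
  · exact le_trans (Nat.pow_le_pow_right (Fact.out : p.Prime).pos (by
      have := w.size_pos; omega)) h.big
  · rw [Group.isSolvable_def]
    refine ⟨w.size + c, Subgroup.map_injective (Subgroup.subtype_injective _) ?_⟩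
    rw [← dser_eq_map, Subgroup.map_bot, ← le_bot_iff, ← dser_dser, ← h.hyp a ha ha1]
    exact (dser_mono (dser_le_wsub w _) c).trans (dser_le_lcs _ c)

theorem Cfg.cover (h : Cfg p A G₀ w c) {D : Subgroup G} (hD : D ≤ A) :
    valH G₀ w ⊓ centralizer (D : Set G) ≤
      ⨆ B ∈ Fam p A w, Wv w G₀ B ⊓ centralizer (D : Set G) :=
  wsub_fixed_le h.elem h.ne_bot _ G₀ rfl h.cop h.solvable h.inv w D hD

theorem Cfg.generated (h : Cfg p A G₀ w c) : valH G₀ w ≤ ⨆ B ∈ Fam p A w, Wv w G₀ B := by
  refine le_trans (le_inf le_rfl ?_) ((h.cover (bot_le (a := A))).trans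
    (iSup₂_mono fun B _ => inf_le_left))
  intro x _
  exact Subgroup.mem_centralizer_iff.mpr fun y hy => by
    rw [SetLike.mem_coe, Subgroup.mem_bot] at hy; simp [hy]

/-- An action on an abelian section is tested on hyperplanes. -/
theorem Cfg.section_bound (h : Cfg p A G₀ w c) {V U X : Subgroup G} {n : ℕ} (hV : V ≤ G₀)
    (hAV : Nm A V) (hab : ⁅V, V⁆ ≤ U) (hUV : U ≤ V) (hXV : Nm X V) (hXU : Nm X U)
    (hD : ∀ D ∈ HP p A, com (V ⊓ centralizer (D : Set G)) X n ≤ U) : com V X n ≤ U := by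
  refine (com_mono ?_ le_rfl n).trans (com_iSup_left_le
    (X := fun D : {D // D ∈ HP p A} => V ⊓ centralizer (D.1 : Set G)) hab hUV hXV hXU
    (fun D => inf_le_left) (fun D => hD D.1 D.2))
  refine le_sup_of_le_left (le_of_hyperplanes h.elem h.ne_bot V (not_dvd_of_le hV h.cop) hAV
    fun D hD hi => ?_)
  exact le_iSup (fun D : {D // D ∈ HP p A} => V ⊓ centralizer (D.1 : Set G))
    ⟨D, mem_fam.mpr ⟨hD, by simp [Word.size, hi]⟩⟩

/-- A group generated by subgroups acting nilpotently on a section acts nilpotently, if it is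
nilpotent modulo the section. -/
theorem join_unipotent {H V U : Subgroup G} {n : ℕ} (hHV : Nm H V) (hHU : Nm H U) (hVH : V ≤ H)
    (hab : ⁅V, V⁆ ≤ U) (hnil : com H H n ≤ V) :
    ∀ (m : ℕ) (X : Subgroup G), Nat.card X = m → V ≤ X → X ≤ H → ∀ S : Set (Subgroup G),
      (∀ W ∈ S, W ≤ X ∧ ∃ a, com V W a ≤ U) → X = sSup S ⊔ V → ∃ b, com V X b ≤ U := by
  classical
  intro m
  induction m using Nat.strong_induction_on with
  | _ m ih =>
  intro X hm hVX hXH S hS hX
  have hXV : Nm X V := hXH.trans hHV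
  have hXU : Nm X U := hXH.trans hHU
  have hV1 : com V V 1 ≤ U := hab
  set Y : Subgroup G → Subgroup G :=
    fun W => sSup {W' | ∃ x ∈ X, W.map (MulAut.conj x).toMonoidHom = W'} ⊔ V with hY
  have hYX : ∀ W ∈ S, Y W ≤ X := by
    intro W hW
    refine sup_le (sSup_le ?_) hVX
    rintro _ ⟨x, hx, rfl⟩
    exact (Subgroup.map_mono (hS W hW).1).trans (nm_iff_map.mp (nm_self X) x hx)
  have hYn : ∀ W, Nm X (Y W) := by
    intro W
    rw [nm_iff_map]
    intro g hg
    rw [hY, Subgroup.map_sup]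
    refine sup_le ?_ ((nm_iff_map.mp hXV g hg).trans le_sup_right)
    rw [Subgroup.map_le_iff_le_comap, sSup_le_iff]
    rintro _ ⟨x, hx, rfl⟩
    rw [← Subgroup.map_le_iff_le_comap, Subgroup.map_map]
    refine le_sup_of_le_left (le_sSup ⟨g * x, mul_mem hg hx, ?_⟩)
    congr 1
    ext y
    simp [mul_assoc]
  by_cases hfull : ∃ W ∈ S, Y W = X
  · obtain ⟨W, hW, hWX⟩ := hfull
    obtain ⟨hWle, a, ha⟩ := hS W hW
    have hZX : W ⊔ V ≤ X := sup_le hWle hVX
    have hC : ∀ q, Nm X (com X X q) := fun q => nm_com (nm_self X) (nm_self X) q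
    have hder : ∀ q, X ≤ (W ⊔ V) ⊔ com X X q := by
      intro q
      induction q with
      | zero => exact le_sup_right
      | succ q ihq =>
        have hnC : Nm (com X X q) ((W ⊔ V) ⊔ com X X (q + 1)) := by
          refine nm_sup_of_comm (((com_le (nm_self X) q)).trans (hC _)) (hZX.trans (hC _)) ?_
          rw [commutator_comm]
          exact (commutator_mono le_rfl hZX).trans le_sup_right
        have h2 : ⁅X, X⁆ ≤ (W ⊔ V) ⊔ com X X (q + 1) := by
          refine (commutator_mono ihq ihq).trans (commutator_sup_left_le ?_ ?_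
            (nm_of_le le_sup_left) hnC)
          · refine commutator_sup_right_le ((nm_iff.mp (nm_self _)).trans le_sup_left) ?_
              (nm_of_le le_sup_left) hnC
            rw [commutator_comm]
            exact (commutator_mono le_rfl hZX).trans le_sup_right
          · refine (commutator_mono le_rfl ?_).trans le_sup_right
            exact sup_le hZX (com_le (nm_self X) q)
        calc X = Y W := hWX.symm
          _ ≤ (W ⊔ V) ⊔ com X X (q + 1) := by
            refine sup_le (sSup_le ?_) (le_sup_right.trans le_sup_left)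
            rintro _ ⟨x, hx, rfl⟩ _ ⟨y, hy, rfl⟩
            show x * y * x⁻¹ ∈ _
            rw [show x * y * x⁻¹ = ⁅x, y⁆ * y by simp only [commutatorElement_def]; group]
            exact mul_mem (h2 (commutator_mem_commutator hx (hWle hy)))
              (Subgroup.mem_sup_left (Subgroup.mem_sup_left hy))
    have hXeq : X ≤ W ⊔ V :=
      (hder n).trans (sup_le le_rfl (((com_mono hXH hXH n).trans hnil).trans le_sup_right))
    refine ⟨a * 1, (com_mono le_rfl hXeq _).trans (com_join (hWle.trans hXV) (nm_self V)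
      (hWle.trans hXV) (hVH.trans hHU) (hWle.trans hXU) (hVH.trans hHU) ha hV1)⟩
  · push Not at hfull
    have hb : ∀ W ∈ S, ∃ b, com V (Y W) b ≤ U := by
      intro W hW
      have hlt : Nat.card (Y W) < m := hm ▸ lt_of_le_of_ne (Subgroup.card_le_of_le (hYX W hW))
        fun e => hfull W hW (Subgroup.eq_of_le_of_card_ge (hYX W hW) e.ge)
      refine ih _ hlt (Y W) rfl le_sup_right ((hYX W hW).trans hXH) _ ?_ rfl
      rintro _ ⟨x, hx, rfl⟩
      refine ⟨le_sup_of_le_left (le_sSup ⟨x, hx, rfl⟩), ?_⟩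
      obtain ⟨-, a, ha⟩ := hS W hW
      have hxV : V.map (MulAut.conj x).toMonoidHom = V := by
        refine le_antisymm (nm_iff_map.mp hXV x hx) fun v hv => ⟨x⁻¹ * v * x, ?_, ?_⟩
        · exact mem_conj_normalizer' (hXV hx) hv
        · simp [mul_assoc]
      refine ⟨a, ?_⟩
      rw [← hxV, ← com_map]
      exact (Subgroup.map_mono ha).trans (nm_iff_map.mp hXU x hx)
    choose! b hb using hb
    obtain ⟨S', hS'⟩ : ∃ S' : Finset (Subgroup G), ∀ W, W ∈ S' ↔ W ∈ S :=
      ⟨(Set.toFinite S).toFinset, fun W => Set.Finite.mem_toFinset _⟩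
    set M := ∑ W ∈ S', b W with hM
    refine ⟨M ^ S'.card * 1, (com_mono le_rfl ?_ _).trans (com_finset_join (Z := V) Y S'
      (fun W hW => (hYX W ((hS' W).mp hW)).trans hXV) (nm_self V)
      (fun W hW => (hYX W ((hS' W).mp hW)).trans hXV)
      (fun W hW W' _ => (hYX W ((hS' W).mp hW)).trans (nm_sup (hYn W') hXV)) (hVH.trans hHU)
      (fun W hW => (hYX W ((hS' W).mp hW)).trans hXU) (hVH.trans hHU)
      (fun W hW => (com_antitone ((hYX W ((hS' W).mp hW)).trans hXV)
        (Finset.single_le_sum (fun _ _ => Nat.zero_le _) hW)).trans (hb W ((hS' W).mp hW))) hV1)⟩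
    rw [hX]
    refine sup_le (sSup_le fun W hW => ?_) le_sup_right
    refine le_sup_of_le_left (le_iSup₂_of_le W ((hS' W).mpr hW) (le_sup_of_le_left ?_))
    refine le_sSup ⟨1, X.one_mem, ?_⟩
    rw [map_one]
    ext y
    simp

/-- The value of the tree is nilpotent. -/
theorem Cfg.nilpotent (h : Cfg p A G₀ w c) : ∃ n, com (valH G₀ w) (valH G₀ w) n = ⊥ := by
  set H := valH G₀ w with hH
  have hHG : H ≤ G₀ := wsub_le w G₀
  have hstep : ∀ i, ∃ n, com H H n ≤ dser G₀ i := by
    intro i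
    induction i with
    | zero => exact ⟨0, hHG⟩
    | succ i ih =>
      obtain ⟨n, hn⟩ := ih
      set V := dser G₀ i ⊓ H
      set U := dser G₀ (i + 1) ⊓ H
      have hUV : U ≤ V := inf_le_inf_right _ (dser_antitone G₀ (Nat.le_succ i))
      have hab : ⁅V, V⁆ ≤ U :=
        le_inf (commutator_mono inf_le_left inf_le_left)
          ((commutator_mono inf_le_right inf_le_right).trans (nm_iff.mp (nm_self H)))
      have hHV : Nm H V := nm_inf (hHG.trans (nm_dser (nm_self G₀) i)) (nm_self H)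
      have hHU : Nm H U := nm_inf (hHG.trans (nm_dser (nm_self G₀) _)) (nm_self H)
      have hn' : com H H n ≤ V := le_inf hn (com_le (nm_self H) n)
      obtain ⟨m, hm⟩ := join_unipotent hHV hHU inf_le_right hab hn' _ H rfl inf_le_right le_rfl
        {X | ∃ B ∈ Fam p A w, Wv w G₀ B = X} (by
          rintro _ ⟨B, hB, rfl⟩
          refine ⟨wsub_mono w inf_le_left, c + 1, h.section_bound (inf_le_left.trans (dser_le G₀ i))
            (nm_inf (nm_dser h.inv i) (nm_wsub h.inv w)) hab hUV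
            ((wsub_mono w inf_le_left).trans hHV) ((wsub_mono w inf_le_left).trans hHU)
            fun D hD => ?_⟩
          refine (com_mono (inf_le_inf_right _ (inf_le_left.trans (dser_le G₀ i))) le_rfl _).trans ?_
          rw [h.engel_hp hB hD]
          exact bot_le)
        (le_antisymm (le_sup_of_le_left (le_trans h.generated
            (iSup₂_le fun B hB => le_sSup (Exists.intro B (And.intro hB rfl)))))
          (sup_le (sSup_le (by rintro _ ⟨B, -, rfl⟩; exact wsub_mono w inf_le_left)) inf_le_right))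
      refine ⟨n + m, ?_⟩
      rw [← com_com]
      exact ((com_mono hn' le_rfl m).trans hm).trans inf_le_left
  obtain ⟨i, hi⟩ := (Group.isSolvable_def G₀).mp h.solvable
  obtain ⟨n, hn⟩ := hstep i
  refine ⟨n, le_bot_iff.mp (hn.trans ?_)⟩
  rw [dser_eq_map, hi, Subgroup.map_bot]

/-- Class bound for the fixed points of a hyperplane. -/
def hpCls (c N : ℕ) : ℕ := (c + 1) ^ N

/-- Index of the action of the fixed points of a hyperplane on sections. -/
def hpIdx (c N : ℕ) : ℕ := hpCls c N * (c + 1) ^ N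

theorem Cfg.hp_class (h : Cfg p A G₀ w c) {D : Subgroup G} (hD : D ∈ HP p A) :
    com (valH G₀ w ⊓ centralizer (D : Set G)) (valH G₀ w ⊓ centralizer (D : Set G))
      (hpCls c (Nat.card A)) = ⊥ := by
  classical
  set X := valH G₀ w ⊓ centralizer (D : Set G)
  set N : G → Subgroup G := fun a => wsub w (G₀ ⊓ centralizer ({a} : Set G)) ⊓ X with hN
  have hDA : D ≤ A := (mem_fam.mp hD).1
  have hXa : ∀ a ∈ nz D, X ≤ G₀ ⊓ centralizer ({a} : Set G) := fun a ha =>
    (inf_le_inf_right _ (wsub_le w G₀)).trans (inf_centralizer_le (mem_nz.mp ha).1)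
  have hnN : ∀ a ∈ nz D, Nm X (N a) := fun a ha =>
    nm_inf ((hXa a ha).trans (nm_wsub (nm_self _) w)) (nm_self X)
  refine le_bot_iff.mp ?_
  calc com X X (hpCls c (Nat.card A))
      ≤ com X X ((c + 1) ^ (nz D).card * 1) := com_antitone (nm_self X) (by
        rw [mul_one]; exact Nat.pow_le_pow_right (Nat.succ_pos c) (card_nz_le hDA))
    _ ≤ com X ((⨆ a ∈ nz D, N a) ⊔ ⊥) ((c + 1) ^ (nz D).card * 1) := by
        refine com_mono le_rfl (le_sup_of_le_left ?_) _
        refine (h.cover hDA).trans (iSup₂_le fun B hB => ?_)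
        obtain ⟨a, ha, ha1⟩ := h.meet hB hD
        refine le_iSup₂_of_le a (mem_nz.mpr ⟨ha.2, ha1⟩) (le_inf (inf_le_left.trans (wv_le ha.1)) ?_)
        exact inf_le_inf_right _ (wsub_mono w inf_le_left)
    _ ≤ ⊥ := com_finset_join N (nz D) (fun a _ => nm_of_le inf_le_right)
        (nm_of_le bot_le) (fun a _ => nm_normal _ _)
        (fun a _ b hb => inf_le_right.trans (nm_sup (hnN b hb) (nm_normal _ _))) (nm_normal _ _)
        (fun a _ => nm_normal _ _) (nm_normal _ _)
        (fun a ha => (h.engel (hDA (mem_nz.mp ha).1) (mem_nz.mp ha).2 (hXa a ha) inf_le_left).le)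
        (by rw [com_succ, com_zero, Subgroup.commutator_bot_right])

theorem hp_sup_eq (hA : Cfsg.IsElementaryAbelian p A) {D : Subgroup G} (hD : D ∈ HP p A) {a : G} (ha : a ∈ A) (haD : a ∉ D) :
    D ⊔ Subgroup.zpowers a = A := by
  obtain ⟨hDA, hDi⟩ := mem_fam.mp hD
  set J := D ⊔ Subgroup.zpowers a
  have hJA : J ≤ A := sup_le hDA ((Subgroup.zpowers_le).mpr ha)
  refine le_antisymm hJA (Subgroup.relIndex_eq_one.mp ?_)
  have h1 := Subgroup.relIndex_mul_relIndex D J A le_sup_left hJA
  have h2 : D.relIndex J ≠ 1 := fun e =>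
    haD (Subgroup.relIndex_eq_one.mp e (Subgroup.mem_sup_right (Subgroup.mem_zpowers a)))
  have h5 : D.relIndex A ≤ p := by simpa [Word.size] using hDi
  by_contra hne
  have key : ∀ (P Q : Subgroup G), Q ≤ A → P.relIndex Q ≠ 1 → p ≤ P.relIndex Q := by
    intro P Q hQ hne1
    obtain ⟨n, hn⟩ := IsPGroup.iff_card.mp ((elemAb_isPGroup hA).to_le hQ)
    obtain ⟨i, -, hi⟩ := (Nat.dvd_prime_pow (Fact.out : p.Prime)).mp
      (hn ▸ Subgroup.relIndex_dvd_card P Q)
    rw [hi] at hne1 ⊢
    exact Nat.le_self_pow (fun e => hne1 (by rw [e, pow_zero])) p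
  have hJp : p ≤ D.relIndex J ∧ p ≤ J.relIndex A := ⟨key D J hJA h2, key J A le_rfl hne⟩
  nlinarith [hJp.1, hJp.2, (Fact.out : p.Prime).two_le]

/-- The fixed points of a hyperplane act nilpotently on every abelian section. -/
theorem Cfg.hp_action (h : Cfg p A G₀ w c) {D V U : Subgroup G} (hD : D ∈ HP p A)
    (hV : V ≤ valH G₀ w) (hAV : Nm A V) (hab : ⁅V, V⁆ ≤ U) (hUV : U ≤ V)
    (hXV : Nm (valH G₀ w ⊓ centralizer (D : Set G)) V)
    (hXU : Nm (valH G₀ w ⊓ centralizer (D : Set G)) U) :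
    com V (valH G₀ w ⊓ centralizer (D : Set G)) (hpIdx c (Nat.card A)) ≤ U := by
  classical
  set H := valH G₀ w with hH
  set X := H ⊓ centralizer (D : Set G) with hX
  have hDA : D ≤ A := (mem_fam.mp hD).1
  have hHG : H ≤ G₀ := wsub_le w G₀
  refine h.section_bound (hV.trans hHG) hAV hab hUV hXV hXU fun D' hD' => ?_
  set E := D ⊓ D'
  have hXE : X ≤ centralizer (E : Set G) := inf_le_right.trans (Subgroup.centralizer_le inf_le_left)
  set Q := H ⊓ centralizer (A : Set G)
  have hQX : Q ≤ X := inf_le_inf_left _ (Subgroup.centralizer_le hDA)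
  set N : G → Subgroup G := fun a => wsub w (G₀ ⊓ centralizer ({a} : Set G)) ⊓ X
  have hnN : ∀ a ∈ nz E, Nm X (N a) := fun a ha =>
    nm_inf (((inf_le_inf_right _ hHG).trans
      (inf_centralizer_le (mem_nz.mp ha).1.1)).trans (nm_wsub (nm_self _) w)) (nm_self X)
  have hcov : X ≤ Q ⊔ ⨆ a ∈ nz E, N a := by
    refine (h.cover hDA).trans (iSup₂_le fun B hB => ?_)
    obtain ⟨a, ha, ha1⟩ := h.meet hB hD'
    have hW : Wv w G₀ B ⊓ centralizer (D : Set G) ≤ X :=
      inf_le_inf_right _ (wsub_mono w inf_le_left)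
    by_cases haD : a ∈ D
    · exact le_sup_of_le_right (le_iSup₂_of_le a (mem_nz.mpr ⟨⟨haD, ha.2⟩, ha1⟩)
        (le_inf (inf_le_left.trans (wv_le ha.1)) hW))
    · refine le_sup_of_le_left (le_inf (hW.trans inf_le_left) ?_)
      rw [← hp_sup_eq h.elem hD ((mem_fam.mp hB).1 ha.1) haD, Subgroup.le_centralizer_iff]
      refine sup_le (Subgroup.le_centralizer_iff.mp inf_le_right) (Subgroup.le_centralizer_iff.mp ?_)
      refine inf_le_left.trans ((wv_le ha.1).trans ((wsub_le w _).trans (inf_le_right.trans ?_)))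
      rw [Grp.centralizer_singleton_eq_zpowers]
  set V1 := (V ⊓ centralizer (E : Set G)) ⊔ U
  have hVU : Nm V U := nm_iff.mpr ((commutator_mono hUV le_rfl).trans hab)
  have hV1U : Nm V1 U := (sup_le inf_le_left hUV).trans hVU
  have hXV1 : Nm X V1 := nm_sup (nm_inf hXV (hXE.trans Subgroup.le_normalizer)) hXU
  have hNX : (⨆ a ∈ nz E, N a) ≤ X := iSup₂_le fun a _ => inf_le_right
  have hQ : com V1 Q (hpCls c (Nat.card A)) ≤ U := by
    refine (com_mono (sup_le inf_le_left hUV) le_rfl _).trans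
      (h.section_bound (hV.trans hHG) hAV hab hUV (hQX.trans hXV) (hQX.trans hXU) fun D'' hD'' => ?_)
    refine (com_mono (inf_le_inf_right _ hV)
      (inf_le_inf_left _ (Subgroup.centralizer_le (mem_fam.mp hD'').1)) _).trans ?_
    rw [h.hp_class hD'']
    exact bot_le
  have hN : ∀ a ∈ nz E, com V1 (N a) (c + 1) ≤ U := by
    intro a ha
    refine (com_sup_left_le (inf_le_left.trans hVU) (inf_le_right.trans hXU) _).trans
      (sup_le ?_ le_rfl)
    rw [h.engel (hDA (mem_nz.mp ha).1.1) (mem_nz.mp ha).2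
      ((inf_le_inf_right _ (hV.trans hHG)).trans (inf_centralizer_le (mem_nz.mp ha).1))
      inf_le_left]
    exact bot_le
  have hZ : com V1 ((⨆ a ∈ nz E, N a) ⊔ ⊥) ((c + 1) ^ (nz E).card * 1) ≤ U :=
    com_finset_join N (nz E) (fun a _ => inf_le_right.trans hXV1) (nm_of_le bot_le)
      (fun a _ => nm_normal _ _) (fun a _ b hb => inf_le_right.trans (nm_sup (hnN b hb) (nm_normal _ _)))
      hV1U (fun a _ => inf_le_right.trans hXU) (nm_of_le bot_le) hN
      (by rw [com_succ, com_zero, Subgroup.commutator_bot_right]; exact bot_le)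
  rw [sup_bot_eq, mul_one] at hZ
  have hjoin := com_join (hQX.trans hXV1) (hNX.trans hXV1)
    (hQX.trans (nm_iSup fun a => nm_iSup fun ha => hnN a ha)) hV1U (hQX.trans hXU) (hNX.trans hXU)
    hQ hZ
  refine le_trans ?_ hjoin
  refine le_trans ?_ (com_mono le_rfl hcov _)
  refine le_trans (com_mono ?_ le_rfl _) (com_antitone hXV1 ?_)
  · exact (inf_le_inf_left _ (Subgroup.centralizer_le inf_le_right)).trans le_sup_left
  · exact Nat.mul_le_mul_left _ (Nat.pow_le_pow_right (Nat.succ_pos c)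
      (card_nz_le (inf_le_left.trans hDA)))

/-- Index bound for a chain. -/
def chainIdx (c N e : ℕ) : ℕ := hpIdx c N ^ (2 ^ N * e)

theorem hpIdx_pos (c N : ℕ) : 0 < hpIdx c N :=
  Nat.mul_pos (pow_pos (Nat.succ_pos c) _) (pow_pos (Nat.succ_pos c) _)

/-- A nilpotent group generated layer by layer by fixed points of hyperplanes acts nilpotently. -/
theorem Cfg.chain (h : Cfg p A G₀ w c) {R V U : Subgroup G} {e : ℕ} (hR : R ≤ valH G₀ w)
    (hAR : Nm A R) (hVR : V ≤ R) (hAV : Nm A V) (hUV : U ≤ V) (hab : ⁅V, V⁆ ≤ U)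
    (hRV : Nm R V) (hRU : Nm R U)
    (hact : ∀ D ∈ HP p A, com V (R ⊓ centralizer (D : Set G)) (hpIdx c (Nat.card A)) ≤ U)
    (he : com R R e ≤ V) : com V R (chainIdx c (Nat.card A) e) ≤ U := by
  classical
  have hVU : Nm V U := nm_iff.mpr ((commutator_mono hUV le_rfl).trans hab)
  obtain ⟨m, hm⟩ : ∃ m, m = hpIdx c (Nat.card A) := ⟨_, rfl⟩
  obtain ⟨S, hS⟩ : ∃ S, S = HP p A := ⟨_, rfl⟩
  obtain ⟨T, hT⟩ : ∃ T, T = S.card := ⟨_, rfl⟩
  rw [← hm] at hact
  have key : ∀ d q, q + d = e → com V (com R R q ⊔ V) (m ^ (T * d)) ≤ U := by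
    intro d
    induction d with
    | zero =>
      intro q hq
      rw [Nat.mul_zero, pow_zero]
      show ⁅V, com R R q ⊔ V⁆ ≤ U
      exact (commutator_mono le_rfl (sup_le ((le_of_eq (by rw [← hq]; rfl)).trans he) le_rfl)).trans hab
    | succ d ih =>
      intro q hq
      set Cq := com R R q
      set Z := com R R (q + 1) ⊔ V
      have hCqR : Cq ≤ R := com_le (nm_self R) q
      have hZR : Z ≤ R := sup_le (com_le (nm_self R) _) hVR
      have hRC : ∀ n, Nm R (com R R n) := fun n => nm_com (nm_self R) (nm_self R) n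
      have hsup : Cq ⊔ V ≤ (⨆ D ∈ S, Cq ⊓ centralizer (D : Set G)) ⊔ Z := by
        refine sup_le (le_sup_of_le_left ?_) (le_sup_right.trans le_sup_right)
        refine le_of_hyperplanes h.elem h.ne_bot Cq
          (not_dvd_of_le ((hCqR.trans hR).trans (wsub_le w G₀)) h.cop) (nm_com hAR hAR q) fun D hD hi => ?_
        exact le_iSup₂ (f := fun D (_ : D ∈ S) => Cq ⊓ centralizer (D : Set G)) D
          (hS ▸ mem_fam.mpr ⟨hD, by simp [Word.size, hi]⟩)
      refine (com_mono le_rfl hsup _).trans ?_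
      rw [show T * (d + 1) = T + T * d by ring, pow_add]
      obtain ⟨b, hb⟩ : ∃ b, b = m ^ (T * d) := ⟨_, rfl⟩
      have ih' := ih (q + 1) (by omega)
      rw [← hb] at ih' ⊢
      have hstep := com_finset_join (V := V) (U := U) (Z := Z) (a := m) (b := b)
        (fun D : Subgroup G => Cq ⊓ centralizer (D : Set G)) S
        (fun D _ => (inf_le_left.trans hCqR).trans hRV) (hZR.trans hRV)
        (fun D _ => (inf_le_left.trans hCqR).trans (nm_sup (hRC _) hRV)) (fun D _ D' _ => by
          exact nm_sup_of_comm ((inf_le_left.trans hCqR).trans (nm_sup (hRC _) hRV))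
            ((inf_le_left.trans hCqR).trans (nm_sup (hRC _) hRV))
            ((commutator_mono inf_le_left (inf_le_left.trans hCqR)).trans
              (le_sup_of_le_right le_sup_left))) hVU
        (fun D _ => (inf_le_left.trans hCqR).trans hRU) (hZR.trans hRU)
        (fun D hD => (com_mono le_rfl (inf_le_inf_right _ hCqR) _).trans (hact D (hS ▸ hD)))
        ih'
      rw [← hT] at hstep
      exact hstep
  have h0 := key e 0 (Nat.zero_add e)
  rw [com_zero, sup_eq_left.mpr hVR, hT, hS, hm] at h0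
  exact (com_antitone hRV (Nat.pow_le_pow_right (hpIdx_pos c _)
    (Nat.mul_le_mul_right e (card_fam_le _)))).trans h0

/-- Class bound from a derived length bound. -/
def clsSeq (c N : ℕ) : ℕ → ℕ
  | 0 => 0
  | i + 1 => clsSeq c N i + chainIdx c N (clsSeq c N i)

/-- Class of the fixed points of an element. -/
def eltCls (c N L : ℕ) : ℕ := clsSeq c N (L + c)

theorem Cfg.elt_class (h : Cfg p A G₀ w c) {a : G} (ha : a ∈ A) (ha1 : a ≠ 1) :
    com (valH G₀ w ⊓ centralizer ({a} : Set G)) (valH G₀ w ⊓ centralizer ({a} : Set G))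
      (eltCls c (Nat.card A) w.size) = ⊥ := by
  set R := valH G₀ w ⊓ centralizer ({a} : Set G)
  have hHG : valH G₀ w ≤ G₀ := wsub_le w G₀
  have hAR : Nm A R := by
    refine nm_inf (nm_wsub h.inv w) ?_
    rw [Grp.centralizer_singleton_eq_zpowers]
    exact nm_centralizer h.elem ((Subgroup.zpowers_le).mpr ha)
  have hder : dser R (w.size + c) = ⊥ := by
    refine le_bot_iff.mp ?_
    rw [← dser_dser, ← h.hyp a ha ha1]
    exact (dser_mono ((dser_mono (inf_le_inf_right _ hHG) _).trans (dser_le_wsub w _)) c).trans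
      (dser_le_lcs _ c)
  have key : ∀ i, com R R (clsSeq c (Nat.card A) i) ≤ dser R i := by
    intro i
    induction i with
    | zero => exact le_rfl
    | succ i ih =>
      show com R R (clsSeq c (Nat.card A) i + chainIdx c (Nat.card A) (clsSeq c (Nat.card A) i)) ≤ _
      rw [← com_com]
      refine (com_mono ih le_rfl _).trans (h.chain inf_le_left hAR (dser_le R i) (nm_dser hAR i)
        (dser_antitone R (Nat.le_succ i)) le_rfl (nm_dser (nm_self R) i) (nm_dser (nm_self R) _)
        (fun D hD => ?_) ih)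
      obtain ⟨hDA, hDi⟩ := mem_fam.mp hD
      set D1 := D ⊔ Subgroup.zpowers a
      have hD1A : D1 ≤ A := sup_le hDA ((Subgroup.zpowers_le).mpr ha)
      have hD1 : D1 ∈ HP p A := by
        refine mem_fam.mpr ⟨hD1A, le_trans ?_ hDi⟩
        rw [← Subgroup.relIndex_mul_relIndex D D1 A le_sup_left hD1A]
        exact Nat.le_mul_of_pos_left _ (Nat.pos_of_ne_zero (Nat.ne_zero_iff_zero_lt.mpr
          (Nat.pos_of_dvd_of_pos (Subgroup.relIndex_dvd_card D D1) Nat.card_pos)))
      have hle : R ⊓ centralizer (D : Set G) ≤ valH G₀ w ⊓ centralizer (D1 : Set G) := by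
        refine le_inf (inf_le_left.trans inf_le_left) (Subgroup.le_centralizer_iff.mp ?_)
        refine sup_le (Subgroup.le_centralizer_iff.mp inf_le_right) (Subgroup.le_centralizer_iff.mp ?_)
        refine inf_le_left.trans (inf_le_right.trans ?_)
        rw [Grp.centralizer_singleton_eq_zpowers]
      have hX1R : valH G₀ w ⊓ centralizer (D1 : Set G) ≤ R :=
        inf_le_inf_left _ (centralizer_le_singleton (Subgroup.mem_sup_right (Subgroup.mem_zpowers a)))
      exact (com_mono le_rfl hle _).trans (h.hp_action hD1 ((dser_le R i).trans inf_le_left)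
        (nm_dser hAR i) le_rfl (dser_antitone R (Nat.le_succ i))
        (hX1R.trans (nm_dser (nm_self R) i)) (hX1R.trans (nm_dser (nm_self R) _)))
  refine le_bot_iff.mp ?_
  rw [← hder]
  exact key _

end Cfsg.Agent.Grp.CW
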