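import Mathlib
import Cfsg.Agent.Lib.Grp.Kreknin

/-!
Kreknin's theorem for a zero component acting nilpotently: a `ZMod p`-graded Lie ring in which the
zero component acts nilpotently of index `m` is solvable of derived length bounded by `p` and `m`.
-/

set_option autoImplicit false

namespace Cfsg.Agent.Grp.CW

open Kreknin

variable {A : Type*} [LieRing A] {p : ℕ}

/-- Iterated brackets with a fixed additive subgroup. -/
def itb (X Z : AddSubgroup A) : ℕ → AddSubgroup A
  | 0 => X
  | r + 1 => AddSubgroup.closure {w | ∃ x ∈ itb X Z r, ∃ z ∈ Z, ⁅x, z⁆ = w}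

theorem itb_mono {X Y Z : AddSubgroup A} (h : X ≤ Y) : ∀ r, itb X Z r ≤ itb Y Z r
  | 0 => h
  | r + 1 => AddSubgroup.closure_mono fun _ ⟨x, hx, z, hz, e⟩ => ⟨x, itb_mono h r hx, z, hz, e⟩

variable {H F : ZMod p → AddSubgroup A}

/-- Stability of a family under the zero component. -/
def Stable (H F : ZMod p → AddSubgroup A) : Prop :=
  ∀ k, ∀ x ∈ F k, ∀ z ∈ H 0, ⁅x, z⁆ ∈ F k

theorem stable_gder (hS : Stable H F) : ∀ n, Stable H (gder F n)
  | 0 => hS
  | n + 1 => by
    intro k x hx z hz
    refine closure_lie_left ?_ x hx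
    rintro _ ⟨a, b, rfl, u, hu, v, hv, rfl⟩
    rw [lie_lie u v z]
    refine sub_mem (lie_mem_gbrk hu (stable_gder hS n b v hv z hz)) ?_
    rw [add_comm a b]
    exact lie_mem_gbrk hv (stable_gder hS n a u hu z hz)

theorem stable_gen (hS : Stable H F) (s : ℕ) : Stable H (gen F s) := by
  intro k x (hx : Gen F s k x) z hz
  show Gen F s k ⁅x, z⁆
  induction hx with
  | @of k x h1 h2 => exact Gen.of h1 (hS k x h2 z hz)
  | zero => rw [zero_lie]; exact Gen.zero
  | add _ _ h1 h2 => rw [add_lie]; exact Gen.add h1 h2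
  | neg _ h1 => rw [neg_lie]; exact Gen.neg h1
  | @lie a b x y hx hy h1 h2 =>
    rw [lie_lie x y z, sub_eq_add_neg]
    refine Gen.add (Gen.lie hx h2) (Gen.neg ?_)
    rw [add_comm a b]
    exact Gen.lie hy h1

theorem gen_family_mono {F' : ZMod p → AddSubgroup A} (h : ∀ k, F' k ≤ F k) (s : ℕ) (k : ZMod p) :
    gen F' s k ≤ gen F s k :=
  gen_le (K := gen F s) (fun k hk x hx => Gen.of hk (h k hx))
    (fun _ _ _ hx _ hy => Gen.lie hx hy) k

theorem itb_succ_le_sup {X G J Z : AddSubgroup A} (h : X ≤ G ⊔ J)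
    (hG : ∀ x ∈ G, ∀ z ∈ Z, ⁅x, z⁆ ∈ G) :
    AddSubgroup.closure {w | ∃ x ∈ X, ∃ z ∈ Z, ⁅x, z⁆ = w} ≤
      G ⊔ AddSubgroup.closure {w | ∃ x ∈ J, ∃ z ∈ Z, ⁅x, z⁆ = w} := by
  rw [AddSubgroup.closure_le]
  rintro _ ⟨x, hx, z, hz, rfl⟩
  obtain ⟨g, hg, j, hj, rfl⟩ := AddSubgroup.mem_sup.mp (h hx)
  rw [add_lie]
  exact AddSubgroup.add_mem_sup (hG g hg z hz) (AddSubgroup.subset_closure ⟨j, hj, z, hz, rfl⟩)

/-- The derived length of the recursion. -/
def krN (m : ℕ) : ℕ → ℕ
  | 0 => m
  | s + 1 => m * (krN m s + 1) + krN m s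

theorem gder_le_gen_of_nilpotent [hp : Fact p.Prime] {m : ℕ}
    (hm : ∀ k, itb (H k) (H 0) m = ⊥) :
    ∀ s, s ≤ p - 1 → ∀ F : ZMod p → AddSubgroup A, Closed F → (∀ k, F k ≤ H k) → Stable H F →
      ∀ k, gder F (krN m s) k ≤ gen F s k := by
  intro s
  induction s with
  | zero =>
    intro _ F hF hFH hS k
    by_cases hk : k = 0
    · subst hk
      have key : ∀ i, gder F i 0 ≤ gen F 0 0 ⊔ itb (F 0) (H 0) i := by
        intro i
        induction i with
        | zero => exact le_sup_right
        | succ i ih =>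
          refine gbrk_le fun a b hab x hx y hy => ?_
          by_cases ha : a = 0
          · subst ha
            rw [zero_add] at hab
            subst hab
            exact itb_succ_le_sup ih (stable_gen hS 0 0)
              (AddSubgroup.subset_closure ⟨x, hx, y, hFH 0 (gder_le hF i 0 hy), rfl⟩)
          · have hb : b ≠ 0 := fun e => ha (by rwa [e, add_zero] at hab)
            refine AddSubgroup.mem_sup_left ?_
            show Gen F 0 0 ⁅x, y⁆
            rw [← hab]
            exact Gen.lie
              (Gen.of (Nat.pos_of_ne_zero fun h => ha ((ZMod.val_eq_zero a).mp h)) (gder_le hF i a hx))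
              (Gen.of (Nat.pos_of_ne_zero fun h => hb ((ZMod.val_eq_zero b).mp h)) (gder_le hF i b hy))
      refine (key m).trans (sup_le le_rfl ?_)
      exact ((itb_mono (hFH 0) m).trans (hm 0).le).trans bot_le
    · exact fun x hx => Gen.of (Nat.pos_of_ne_zero fun h => hk ((ZMod.val_eq_zero k).mp h))
        (gder_le hF _ k hx)
  | succ s ih =>
    intro hs F hF hFH hS k
    set n := krN m s with hn
    have hs' : s ≤ p - 1 := by omega
    -- one step
    have one : ∀ F : ZMod p → AddSubgroup A, Closed F → (∀ k, F k ≤ H k) → Stable H F →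
        ∀ k : ZMod p, k.val = s + 1 →
          gder F (n + 1) k ≤ gen F (s + 1) k ⊔ itb (F k) (H 0) 1 := by
      intro F hF hFH hS k hkv
      refine gbrk_le fun a b hab x hx y hy => ?_
      subst hab
      have hx' := gen_le_mono F s a (ih hs' F hF hFH hS a hx)
      have hy' := gen_le_mono F s b (ih hs' F hF hFH hS b hy)
      have h1 : ⁅x, y⁆ ∈ mono2 F s (a + b) :=
        closure_lie_right (fun z hz => lie_mono_mem hz a x hx') y hy'
      refine (AddSubgroup.closure_le _).mpr ?_ h1
      rintro _ ⟨e, d, u, g, hed, hu, hd, hg, rfl⟩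
      rw [← hed] at hkv ⊢
      rcases Nat.lt_or_ge (s + 1) d.val with hdl | hdg
      · refine AddSubgroup.mem_sup_left (Gen.lie (Gen.of ?_ (hu.mem hF)) (Gen.of hdl hg))
        have h1 : d.val < p := ZMod.val_lt d
        have he : e = ((e + d).val + (p - d.val) : ℕ) := by
          rw [Nat.cast_add, Nat.cast_sub h1.le, ZMod.natCast_self, ZMod.natCast_val,
            ZMod.natCast_val, ZMod.cast_id, ZMod.cast_id]
          abel
        rw [he, hkv, ZMod.val_natCast, Nat.mod_eq_of_lt (by omega)]
        omega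
      · have hde : d = e + d := ZMod.val_injective p (by omega)
        have he0 : e = 0 := by simpa using hde
        subst he0
        rw [zero_add] at hkv ⊢
        refine AddSubgroup.mem_sup_right ?_
        show ⁅u, g⁆ ∈ AddSubgroup.closure _
        rw [← lie_skew u g]
        exact neg_mem (AddSubgroup.subset_closure ⟨g, hg, u, hFH 0 (hu.mem hF), rfl⟩)
    -- iterate
    have iter : ∀ k : ZMod p, k.val = s + 1 → ∀ r,
        gder F (r * (n + 1)) k ≤ gen F (s + 1) k ⊔ itb (F k) (H 0) r := by
      intro k hkv r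
      induction r with
      | zero => rw [Nat.zero_mul]; exact le_sup_right
      | succ r ihr =>
        rw [Nat.succ_mul, ← gder_gder]
        refine (one _ (gder_closed hF _) (fun k => (gder_le hF _ k).trans (hFH k))
          (stable_gder hS _) k hkv).trans (sup_le ?_ ?_)
        · exact (gen_family_mono (fun k => gder_le hF _ k) (s + 1) k).trans le_sup_left
        · exact itb_succ_le_sup ihr (stable_gen hS (s + 1) k)
    have hN : krN m (s + 1) = m * (n + 1) + n := rfl
    rw [hN, ← gder_gder]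
    refine (ih hs' _ (gder_closed hF _) (fun k => (gder_le hF _ k).trans (hFH k))
      (stable_gder hS _) k).trans ?_
    refine gen_le (fun j hj => ?_) (fun a b x hx y hy => Gen.lie hx hy) k
    rcases Nat.lt_or_ge (s + 1) j.val with hlt | hge
    · exact fun x hx => Gen.of hlt (gder_le hF _ j hx)
    · refine (iter j (by omega) m).trans (sup_le le_rfl ?_)
      exact ((itb_mono (hFH j) m).trans (hm j).le).trans bot_le

/-- Kreknin's theorem for a nilpotently acting zero component. -/
theorem gder_eq_bot_of_nilpotent [hp : Fact p.Prime] {m : ℕ} (hH : Closed H)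
    (hm : ∀ k, itb (H k) (H 0) m = ⊥) (k : ZMod p) : gder H (krN m (p - 1)) k = ⊥ := by
  refine le_bot_iff.mp ((gder_le_gen_of_nilpotent hm (p - 1) le_rfl H hH (fun _ => le_rfl)
    (fun k x hx z hz => by simpa using hH k 0 x hx z hz) k).trans ?_)
  refine gen_le (K := fun _ => ⊥) (fun k hk => ?_) ?_ k
  · have := ZMod.val_lt k; omega
  · intro a b x hx y hy
    rw [AddSubgroup.mem_bot] at hx ⊢
    simp [hx]

end Cfsg.Agent.Grp.CW
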