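import Mathlib
import Cfsg.Agent.Lib.Grp.CoprimeWord.KrekninNil

/-!
Joins of subgroups of a Lie ring acting nilpotently, and chains of such subgroups.
-/

set_option autoImplicit false

namespace Cfsg.Agent.Grp.CW

variable {L : Type*} [LieRing L]

theorem lie_mem_itb {X Z : AddSubgroup L} {r : ℕ} {x z : L} (hx : x ∈ itb X Z r) (hz : z ∈ Z) :
    ⁅x, z⁆ ∈ itb X Z (r + 1) :=
  AddSubgroup.subset_closure ⟨x, hx, z, hz, rfl⟩

theorem itb_succ_le {X Z T : AddSubgroup L} {r : ℕ}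
    (h : ∀ x ∈ itb X Z r, ∀ z ∈ Z, ⁅x, z⁆ ∈ T) : itb X Z (r + 1) ≤ T :=
  (AddSubgroup.closure_le T).mpr fun _ ⟨x, hx, z, hz, e⟩ => e ▸ h x hx z hz

theorem itb_mono' {X Y Z W : AddSubgroup L} (h : X ≤ Y) (h' : Z ≤ W) : ∀ r, itb X Z r ≤ itb Y W r
  | 0 => h
  | r + 1 => itb_succ_le fun _ hx _ hz => lie_mem_itb (itb_mono' h h' r hx) (h' hz)

theorem itb_itb (X Z : AddSubgroup L) (m : ℕ) : ∀ n, itb (itb X Z m) Z n = itb X Z (m + n)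
  | 0 => rfl
  | n + 1 => by
    show AddSubgroup.closure _ = AddSubgroup.closure _
    rw [itb_itb X Z m n]
    rfl

theorem itb_le_self {X Z : AddSubgroup L} (h : ∀ x ∈ X, ∀ z ∈ Z, ⁅x, z⁆ ∈ X) : ∀ r, itb X Z r ≤ X
  | 0 => le_rfl
  | _r + 1 => itb_succ_le fun _ hx _ hz => h _ (itb_le_self h _ hx) _ hz

theorem itb_antitone {X Z : AddSubgroup L} (h : ∀ x ∈ X, ∀ z ∈ Z, ⁅x, z⁆ ∈ X) {m n : ℕ}
    (hmn : m ≤ n) : itb X Z n ≤ itb X Z m := by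
  obtain ⟨d, rfl⟩ := Nat.exists_eq_add_of_le hmn
  rw [Nat.add_comm, ← itb_itb]
  exact itb_mono' (itb_le_self h d) le_rfl m

theorem itb_stable {X Z C : AddSubgroup L} (hX : ∀ x ∈ X, ∀ c ∈ C, ⁅x, c⁆ ∈ X)
    (hZ : ∀ z ∈ Z, ∀ c ∈ C, ⁅z, c⁆ ∈ Z) :
    ∀ r, ∀ x ∈ itb X Z r, ∀ c ∈ C, ⁅x, c⁆ ∈ itb X Z r
  | 0 => hX
  | r + 1 => fun x hx c hc => by
    refine Kreknin.closure_lie_left ?_ x hx
    rintro _ ⟨u, hu, z, hz, rfl⟩
    rw [lie_lie u z c, ← lie_skew z ⁅u, c⁆]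
    exact sub_mem (lie_mem_itb hu (hZ z hz c hc))
      (neg_mem (lie_mem_itb (itb_stable hX hZ r u hu c hc) hz))

theorem itb_sup_le {X U Z : AddSubgroup L} (hU : ∀ x ∈ U, ∀ z ∈ Z, ⁅x, z⁆ ∈ U) :
    ∀ r, itb (X ⊔ U) Z r ≤ itb X Z r ⊔ U
  | 0 => le_rfl
  | r + 1 => itb_succ_le fun x hx z hz => by
    obtain ⟨a, ha, b, hb, rfl⟩ := AddSubgroup.mem_sup.mp (itb_sup_le hU r hx)
    rw [add_lie]
    exact AddSubgroup.add_mem_sup (lie_mem_itb ha hz) (hU b hb z hz)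

theorem itb_iSup_le {ι : Sort*} (X : ι → AddSubgroup L) (Z : AddSubgroup L) :
    ∀ r, itb (⨆ i, X i) Z r ≤ ⨆ i, itb (X i) Z r
  | 0 => le_rfl
  | r + 1 => itb_succ_le fun x hx z hz => by
    refine AddSubgroup.iSup_induction (fun i => itb (X i) Z r)
      (C := fun x => ⁅x, z⁆ ∈ ⨆ i, itb (X i) Z (r + 1)) (itb_iSup_le X Z r hx)
      (fun i y hy => AddSubgroup.mem_iSup_of_mem i (lie_mem_itb hy hz))
      (by rw [zero_lie]; exact zero_mem _) (fun a b ha hb => by rw [add_lie]; exact add_mem ha hb)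

theorem itb_mul_le {V R : AddSubgroup L} {P : ℕ → AddSubgroup L} {a : ℕ} (h0 : V ≤ P 0)
    (hs : ∀ i, itb (P i) R a ≤ P (i + 1)) : ∀ i, itb V R (a * i) ≤ P i
  | 0 => h0
  | i + 1 => by
    rw [Nat.mul_succ, ← itb_itb]
    exact (itb_mono' (itb_mul_le h0 hs i) le_rfl a).trans (hs i)

/-- If `C` and `Z` act nilpotently and `C` normalizes `Z`, then `C ⊔ Z` acts nilpotently. -/
theorem itb_join {V U C Z : AddSubgroup L} {a b : ℕ} (hCV : ∀ x ∈ V, ∀ c ∈ C, ⁅x, c⁆ ∈ V)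
    (hZV : ∀ x ∈ V, ∀ z ∈ Z, ⁅x, z⁆ ∈ V) (hCU : ∀ x ∈ U, ∀ c ∈ C, ⁅x, c⁆ ∈ U)
    (hZU : ∀ x ∈ U, ∀ z ∈ Z, ⁅x, z⁆ ∈ U) (hCZ : ∀ z ∈ Z, ∀ c ∈ C, ⁅z, c⁆ ∈ Z)
    (hC : itb V C a ≤ U) (hZ : itb V Z b ≤ U) : itb V (C ⊔ Z) (a * b) ≤ U := by
  set P : ℕ → AddSubgroup L := fun i => itb V Z i ⊔ U with hP
  have hPC : ∀ i, ∀ x ∈ P i, ∀ c ∈ C, ⁅x, c⁆ ∈ P i := by
    intro i x hx c hc
    obtain ⟨u, hu, v, hv, rfl⟩ := AddSubgroup.mem_sup.mp hx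
    rw [add_lie]
    exact AddSubgroup.add_mem_sup (itb_stable hCV hCZ i u hu c hc) (hCU v hv c hc)
  have hPZ : ∀ i, ∀ x ∈ P i, ∀ z ∈ Z, ⁅x, z⁆ ∈ P (i + 1) := by
    intro i x hx z hz
    obtain ⟨u, hu, v, hv, rfl⟩ := AddSubgroup.mem_sup.mp hx
    rw [add_lie]
    exact AddSubgroup.add_mem_sup (lie_mem_itb hu hz) (hZU v hv z hz)
  have hanti : ∀ i, P (i + 1) ≤ P i := fun i => sup_le_sup_right (itb_antitone hZV i.le_succ) U
  have hstep : ∀ i q, itb (P i) (C ⊔ Z) q ≤ itb (P i) C q ⊔ P (i + 1) := by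
    intro i q
    induction q with
    | zero => exact le_sup_left
    | succ q ih =>
      refine itb_succ_le fun x hx y hy => ?_
      obtain ⟨u, hu, v, hv, rfl⟩ := AddSubgroup.mem_sup.mp (ih hx)
      obtain ⟨c, hc, z, hz, rfl⟩ := AddSubgroup.mem_sup.mp hy
      rw [add_lie, lie_add, lie_add]
      refine add_mem (add_mem (AddSubgroup.mem_sup_left (lie_mem_itb hu hc)) ?_) (add_mem ?_ ?_)
      · exact AddSubgroup.mem_sup_right (hPZ i u (itb_le_self (hPC i) q hu) z hz)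
      · exact AddSubgroup.mem_sup_right (hPC _ v hv c hc)
      · exact AddSubgroup.mem_sup_right (hanti _ (hPZ _ v hv z hz))
  have hlay : ∀ i, itb (P i) (C ⊔ Z) a ≤ P (i + 1) := fun i => by
    refine (hstep i a).trans (sup_le ?_ le_rfl)
    calc itb (P i) C a ≤ itb (V ⊔ U) C a :=
          itb_mono' (sup_le_sup_right (itb_le_self hZV i) U) le_rfl a
      _ ≤ itb V C a ⊔ U := itb_sup_le hCU a
      _ ≤ U := sup_le hC le_rfl
      _ ≤ P (i + 1) := le_sup_right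
  exact (itb_mul_le (le_sup_left (b := U)) hlay b).trans (sup_le hZ le_rfl)

/-- `C` normalizes `Z`. -/
abbrev LNm (C Z : AddSubgroup L) : Prop := ∀ z ∈ Z, ∀ c ∈ C, ⁅z, c⁆ ∈ Z

theorem lnm_ideal {V : AddSubgroup L} (hV : ∀ x ∈ V, ∀ y : L, ⁅x, y⁆ ∈ V) (C : AddSubgroup L) :
    LNm C V :=
  fun x hx c _ => hV x hx c

theorem itb_finset_join {ι : Type*} {V U Z : AddSubgroup L} {a b : ℕ} (C : ι → AddSubgroup L)
    (S : Finset ι) (hV : ∀ x ∈ V, ∀ y : L, ⁅x, y⁆ ∈ V) (hU : ∀ x ∈ U, ∀ y : L, ⁅x, y⁆ ∈ U)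
    (hCZ : ∀ i ∈ S, LNm (C i) Z) (hCC : ∀ i ∈ S, ∀ j ∈ S, ∀ x ∈ C j, ∀ c ∈ C i, ⁅x, c⁆ ∈ Z)
    (hC : ∀ i ∈ S, itb V (C i) a ≤ U) (hZ : itb V Z b ≤ U) :
    itb V ((⨆ i ∈ S, C i) ⊔ Z) (a ^ S.card * b) ≤ U := by
  classical
  induction S using Finset.induction_on with
  | empty => simpa using hZ
  | @insert k S hk ih =>
    have hS : ∀ i ∈ S, i ∈ insert k S := fun i hi => Finset.mem_insert_of_mem hi
    have hk' := Finset.mem_insert_self k S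
    have hkR : LNm (C k) ((⨆ i ∈ S, C i) ⊔ Z) := by
      intro x hx c hc
      obtain ⟨u, hu, v, hv, rfl⟩ := AddSubgroup.mem_sup.mp hx
      rw [add_lie]
      refine add_mem ?_ (AddSubgroup.mem_sup_right (hCZ k hk' v hv c hc))
      rw [iSup_subtype'] at hu
      refine AddSubgroup.iSup_induction _ (C := fun u => ⁅u, c⁆ ∈ (⨆ i ∈ S, C i) ⊔ Z) hu
        (fun i y hy => AddSubgroup.mem_sup_right (hCC k hk' i.1 (hS _ i.2) y hy c hc))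
        (by rw [zero_lie]; exact zero_mem _) (fun a b ha hb => by rw [add_lie]; exact add_mem ha hb)
    rw [Finset.iSup_insert, sup_assoc, Finset.card_insert_of_notMem hk, pow_succ', mul_assoc]
    exact itb_join (lnm_ideal hV _) (lnm_ideal hV _) (lnm_ideal hU _) (lnm_ideal hU _) hkR (hC k hk')
      (ih (fun i hi => hCZ i (hS i hi)) (fun i hi j hj => hCC i (hS i hi) j (hS j hj))
        (fun i hi => hC i (hS i hi)))

/-- A chain whose layers are covered by subgroups acting nilpotently acts nilpotently. -/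
theorem itb_chain {ι : Type*} {V U : AddSubgroup L} {a b : ℕ} (P : ℕ → AddSubgroup L)
    (C : ℕ → ι → AddSubgroup L) (S : Finset ι) (e : ℕ) (hV : ∀ x ∈ V, ∀ y : L, ⁅x, y⁆ ∈ V)
    (hU : ∀ x ∈ U, ∀ y : L, ⁅x, y⁆ ∈ U) (hcov : ∀ q, P q ≤ (⨆ i ∈ S, C q i) ⊔ P (q + 1))
    (hnm : ∀ q, ∀ i ∈ S, LNm (C q i) (P (q + 1)))
    (hCC : ∀ q, ∀ i ∈ S, ∀ j ∈ S, ∀ x ∈ C q j, ∀ c ∈ C q i, ⁅x, c⁆ ∈ P (q + 1))
    (hC : ∀ q, ∀ i ∈ S, itb V (C q i) a ≤ U) (hbase : itb V (P e) b ≤ U) :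
    itb V (P 0) (a ^ (S.card * e) * b) ≤ U := by
  suffices key : ∀ d q, q + d = e → itb V (P q) (a ^ (S.card * d) * b) ≤ U from
    key e 0 (Nat.zero_add e)
  intro d
  induction d with
  | zero =>
    intro q hq
    obtain rfl : q = e := by omega
    simpa using hbase
  | succ d ih =>
    intro q hq
    refine (itb_mono' le_rfl (hcov q) _).trans ?_
    rw [show S.card * (d + 1) = S.card + S.card * d by ring, pow_add, mul_assoc]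
    exact itb_finset_join (C q) S hV hU (hnm q) (hCC q) (hC q) (ih (q + 1) (by omega))

end Cfsg.Agent.Grp.CW
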