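import Mathlib
import Cfsg.Agent.Lib.Grp.CoprimeWord.GroupBound
import Cfsg.Agent.Lib.Grp.CoprimeWord.LieJoin
import Cfsg.Agent.Lib.Grp.AssocLie

/-!
The class of the value of a tree, through the associated Lie ring.
-/

set_option autoImplicit false
set_option maxHeartbeats 400000

namespace Cfsg.Agent.Grp.CW

open Subgroup
open scoped commutatorElement

variable {G : Type*} [Group G]

open AssocLie

theorem mem_lcs_iff {H : Subgroup G} {n : ℕ} {g : H} :
    g ∈ lcs H n ↔ (g : G) ∈ H.lowerCentralSeries n := by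
  rw [← top_subtype_lowerCentralSeries H n]
  exact ⟨fun h => ⟨g, h, rfl⟩, fun ⟨x, hx, e⟩ => Subtype.ext e ▸ hx⟩

/-- The part of the Lie ring spanned by classes of elements of a subgroup. -/
noncomputable def grs (H X : Subgroup G) : AddSubgroup (L H) :=
  AddSubgroup.closure {y | ∃ n, ∃ g : H, g ∈ lcs H n ∧ (g : G) ∈ X ∧ cls n g = y}

variable {H : Subgroup G}

theorem cls_mem_grs {X : Subgroup G} {n : ℕ} {g : H} (hg : g ∈ lcs H n) (hX : (g : G) ∈ X) :
    cls n g ∈ grs H X :=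
  AddSubgroup.subset_closure ⟨n, g, hg, hX, rfl⟩

theorem grs_mono {X Y : Subgroup G} (h : X ≤ Y) : grs H X ≤ grs H Y :=
  AddSubgroup.closure_mono fun _ ⟨n, g, hg, hX, e⟩ => ⟨n, g, hg, h hX, e⟩

theorem grs_top {X : Subgroup G} (h : H ≤ X) : grs H X = ⊤ := by
  refine top_le_iff.mp fun x hxt => ?_
  clear hxt
  induction x using AssocLie.induction_cls with
  | h0 => exact zero_mem _
  | hadd a b ha hb => exact add_mem ha hb
  | hcls n g hg => exact cls_mem_grs hg (h g.2)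

theorem grs_bot : grs H ⊥ = ⊥ := by
  refine le_bot_iff.mp ((AddSubgroup.closure_le _).mpr ?_)
  rintro _ ⟨n, g, -, hX, rfl⟩
  rw [Subgroup.mem_bot] at hX
  rw [show g = 1 from Subtype.ext hX, cls_one]
  exact zero_mem _

theorem lie_grs {X Y : Subgroup G} :
    ∀ x ∈ grs H X, ∀ y ∈ grs H Y, ⁅x, y⁆ ∈ grs H ⁅X, Y⁆ := by
  intro x hx y hy
  refine Kreknin.closure_lie_left ?_ x hx
  rintro _ ⟨i, a, ha, haX, rfl⟩
  refine Kreknin.closure_lie_right ?_ y hy
  rintro _ ⟨j, b, hb, hbY, rfl⟩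
  rw [bracket_cls ha hb]
  exact cls_mem_grs (comm_mem ha hb) (commutator_mem_commutator haX hbY)

theorem itb_grs_le (X Y : Subgroup G) : ∀ n, itb (grs H X) (grs H Y) n ≤ grs H (com X Y n)
  | 0 => le_rfl
  | n + 1 => itb_succ_le fun _ hx _ hy => lie_grs _ (itb_grs_le X Y n hx) _ hy

theorem grs_lcs_zero : grs H (H.lowerCentralSeries 0) = ⊤ := grs_top le_rfl

theorem grs_lcs_stable (n : ℕ) :
    ∀ x ∈ grs H (H.lowerCentralSeries n), ∀ y : L H, ⁅x, y⁆ ∈ grs H (H.lowerCentralSeries (n + 1)) :=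
  fun x hx y => lie_grs x hx y (by rw [grs_top le_rfl]; trivial)

/-- Deep classes are brackets. -/
theorem grs_lcs_succ_le (q : ℕ) :
    grs H (H.lowerCentralSeries (q + 1)) ≤ itb (grs H (H.lowerCentralSeries q)) ⊤ 1 := by
  refine (AddSubgroup.closure_le _).mpr ?_
  rintro _ ⟨n, g, hg, hX, rfl⟩
  rw [← mem_lcs_iff] at hX
  rcases Nat.lt_or_ge n (q + 1) with hn | hn
  · rw [SetLike.mem_coe, cls_eq_zero (lcs_le hn hX)]
    exact zero_mem _
  obtain ⟨m, rfl⟩ : ∃ m, n = m + 1 := ⟨n - 1, by omega⟩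
  let T : Subgroup H :=
    { carrier := {g | g ∈ lcs H (m + 1) ∧
        cls (m + 1) g ∈ itb (grs H (H.lowerCentralSeries q)) ⊤ 1}
      one_mem' := ⟨Subgroup.one_mem _, by rw [cls_one]; exact zero_mem _⟩
      mul_mem' := fun {a b} ha hb => ⟨(lcs H _).mul_mem ha.1 hb.1, by
        rw [cls_mul ha.1 hb.1]; exact add_mem ha.2 hb.2⟩
      inv_mem' := fun {a} ha => ⟨(lcs H _).inv_mem ha.1, by
        rw [cls_inv ha.1]; exact neg_mem ha.2⟩ }
  suffices h : lcs H (m + 1) ≤ T from (h hg).2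
  rw [show lcs H (m + 1) = ⁅lcs H m, ⊤⁆ from rfl, Subgroup.commutator_le]
  intro a ha b hb
  refine ⟨Subgroup.commutator_mem_commutator ha hb, ?_⟩
  rw [show cls (m + 1) ⁅a, b⁆ = ⁅cls m a, cls 0 b⁆ by
    rw [bracket_cls ha (show b ∈ lcs H 0 from hb)]]
  exact lie_mem_itb (r := 0) (cls_mem_grs ha (mem_lcs_iff.mp (lcs_le (by omega) ha))) trivial

/-- The derived series of the Lie ring. -/
noncomputable def ld (H : Subgroup G) : ℕ → AddSubgroup (L H)
  | 0 => ⊤
  | n + 1 => AddSubgroup.closure {w | ∃ x ∈ ld H n, ∃ y ∈ ld H n, ⁅x, y⁆ = w}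

theorem ld_ideal : ∀ n, ∀ x ∈ ld H n, ∀ y : L H, ⁅x, y⁆ ∈ ld H n
  | 0 => fun _ _ _ => trivial
  | n + 1 => by
    intro x hx y
    refine Kreknin.closure_lie_left ?_ x hx
    rintro _ ⟨u, hu, v, hv, rfl⟩
    rw [lie_lie u v y]
    exact sub_mem (AddSubgroup.subset_closure ⟨u, hu, _, ld_ideal n v hv y, rfl⟩)
      (AddSubgroup.subset_closure ⟨v, hv, _, ld_ideal n u hu y, rfl⟩)

theorem ld_lie {n : ℕ} {x y : L H} (hx : x ∈ ld H n) (hy : y ∈ ld H n) : ⁅x, y⁆ ∈ ld H (n + 1) :=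
  AddSubgroup.subset_closure ⟨x, hx, y, hy, rfl⟩

variable [Finite G] {p : ℕ} [Fact p.Prime] {A G₀ : Subgroup G} {w : Word} {c : ℕ}

theorem grs_cover (hA : Cfsg.IsElementaryAbelian p A) (hA1 : A ≠ ⊥) (hHp : ¬ p ∣ Nat.card H)
    (hAH : Nm A H) {X : Subgroup G} (hAX : Nm A X) :
    grs H X ≤ ⨆ D ∈ HP p A, grs H (X ⊓ centralizer (D : Set G)) := by
  refine (AddSubgroup.closure_le _).mpr ?_
  rintro _ ⟨n, g, hg, hX, rfl⟩
  set T := ⨆ D ∈ HP p A, grs H (X ⊓ centralizer (D : Set G))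
  let S : Subgroup H :=
    { carrier := {g | g ∈ lcs H n ∧ cls n g ∈ T}
      one_mem' := ⟨Subgroup.one_mem _, by rw [cls_one]; exact zero_mem _⟩
      mul_mem' := fun {a b} ha hb => ⟨(lcs H _).mul_mem ha.1 hb.1, by
        rw [cls_mul ha.1 hb.1]; exact add_mem ha.2 hb.2⟩
      inv_mem' := fun {a} ha => ⟨(lcs H _).inv_mem ha.1, by
        rw [cls_inv ha.1]; exact neg_mem ha.2⟩ }
  have key : X ⊓ H.lowerCentralSeries n ≤ S.map H.subtype := by
    refine le_of_hyperplanes hA hA1 _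
      (not_dvd_of_le (inf_le_right.trans (H.lowerCentralSeries_le_self n)) hHp)
      (nm_inf hAX (nm_lcs hAH n)) fun D hD hi => ?_
    rintro x ⟨⟨hxX, hxn⟩, hxD⟩
    refine ⟨⟨x, H.lowerCentralSeries_le_self n hxn⟩, ⟨mem_lcs_iff.mpr hxn, ?_⟩, rfl⟩
    refine AddSubgroup.mem_iSup_of_mem D (AddSubgroup.mem_iSup_of_mem
      (mem_fam.mpr ⟨hD, by simp [Word.size, hi]⟩) (cls_mem_grs (mem_lcs_iff.mpr hxn) ⟨hxX, hxD⟩))
  obtain ⟨y, hy, e⟩ := key ⟨hX, mem_lcs_iff.mp hg⟩
  exact (Subtype.ext e : y = g) ▸ hy.2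

theorem Cfg.valH_cop (h : Cfg p A G₀ w c) : ¬ p ∣ Nat.card (valH G₀ w) :=
  not_dvd_of_le (wsub_le w G₀) h.cop

theorem Cfg.valH_inv (h : Cfg p A G₀ w c) : Nm A (valH G₀ w) := nm_wsub h.inv w

/-- Index of the action on the Lie ring of fixed points of a hyperplane. -/
theorem Cfg.lie_hp (h : Cfg p A G₀ w c) {D : Subgroup G} (hD : D ∈ HP p A) :
    itb ⊤ (grs (valH G₀ w) (valH G₀ w ⊓ centralizer (D : Set G)))
      (eltCls c (Nat.card A) w.size) ≤ ⊥ := by
  set H := valH G₀ w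
  have hcov : (⊤ : AddSubgroup (L H)) ≤ ⨆ D' : {D' // D' ∈ HP p A},
      grs H (H ⊓ centralizer (D'.1 : Set G)) := by
    rw [← grs_top (H := H) le_rfl]
    refine (grs_cover h.elem h.ne_bot h.valH_cop h.valH_inv h.valH_inv).trans
      (iSup₂_le fun D' hD' => ?_)
    exact le_iSup (fun D' : {D' // D' ∈ HP p A} => grs H (H ⊓ centralizer (D'.1 : Set G))) ⟨D', hD'⟩
  refine (itb_mono' hcov le_rfl _).trans ((itb_iSup_le _ _ _).trans (iSup_le fun D' => ?_))
  obtain ⟨a, ha, ha1⟩ : ∃ a ∈ D ⊓ D'.1, a ≠ 1 := by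
    refine (Subgroup.bot_or_exists_ne_one _).resolve_left fun e => ?_
    have h1 := (mem_fam.mp (inf_mem_fam hD D'.2)).2
    rw [e, Subgroup.relIndex_bot_left] at h1
    have h2 : p ^ (w.size + 2) ≤ p ^ 2 := h.big.trans h1
    exact absurd h2 (not_le.mpr (Nat.pow_lt_pow_right (Fact.out : p.Prime).one_lt
      (by have := w.size_pos; omega)))
  refine (itb_grs_le _ _ _).trans ((grs_mono (com_mono
    (inf_le_inf_left _ (centralizer_le_singleton ha.2))
    (inf_le_inf_left _ (centralizer_le_singleton ha.1)) _)).trans ?_)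
  rw [h.elt_class ((mem_fam.mp hD).1 ha.1) ha1, grs_bot]

/-- Index of the action of the fixed points of an element. -/
def eltIdx (c N L : ℕ) : ℕ := (eltCls c N L + 1) ^ (2 ^ N * eltCls c N L)

theorem lie_top_ideal : ∀ x ∈ (⊤ : AddSubgroup (L H)), ∀ y : L H, ⁅x, y⁆ ∈ (⊤ : AddSubgroup (L H)) :=
  fun _ _ _ => trivial

theorem lie_bot_ideal : ∀ x ∈ (⊥ : AddSubgroup (L H)), ∀ y : L H, ⁅x, y⁆ ∈ (⊥ : AddSubgroup (L H)) :=
  fun x hx y => by rw [AddSubgroup.mem_bot] at hx ⊢; rw [hx, zero_lie]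

theorem Cfg.lie_elt (h : Cfg p A G₀ w c) {a : G} (ha : a ∈ A) (ha1 : a ≠ 1) :
    itb ⊤ (grs (valH G₀ w) (valH G₀ w ⊓ centralizer ({a} : Set G)))
      (eltIdx c (Nat.card A) w.size) ≤ ⊥ := by
  classical
  set H := valH G₀ w
  set R := H ⊓ centralizer ({a} : Set G)
  obtain ⟨e, he⟩ : ∃ e, e = eltCls c (Nat.card A) w.size := ⟨_, rfl⟩
  have hAR : Nm A R := by
    refine nm_inf h.valH_inv ?_
    rw [Grp.centralizer_singleton_eq_zpowers]
    exact nm_centralizer h.elem ((Subgroup.zpowers_le).mpr ha)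
  have hRC : ∀ n, Nm R (com R R n) := fun n => nm_com (nm_self R) (nm_self R) n
  obtain ⟨S, hS⟩ : ∃ S, S = HP p A := ⟨_, rfl⟩
  have hlie : ∀ (X Y : Subgroup G) (q : ℕ), ⁅X, Y⁆ ≤ com R R q → ∀ x ∈ grs H X, ∀ y ∈ grs H Y,
      ⁅x, y⁆ ∈ grs H (com R R q) := fun X Y q hq x hx y hy => grs_mono hq (lie_grs x hx y hy)
  have key := itb_chain (a := e + 1) (b := 1) (fun q => grs H (com R R q))
    (fun q (D : Subgroup G) => grs H (com R R q ⊓ centralizer (D : Set G))) S e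
    (lie_top_ideal (H := H)) (lie_bot_ideal (H := H)) (fun q => ?_) (fun q D _ => ?_)
    (fun q D _ D' _ => ?_) (fun q D hD => ?_) ?_
  · refine (itb_antitone (X := (⊤ : AddSubgroup (L H))) (fun _ _ _ _ => trivial) ?_).trans key
    rw [mul_one, he]
    show _ ≤ (eltCls c (Nat.card A) w.size + 1) ^ (2 ^ Nat.card A * eltCls c (Nat.card A) w.size)
    exact Nat.pow_le_pow_right (Nat.succ_pos _) (Nat.mul_le_mul_right _ (hS ▸ card_fam_le _))
  · rw [hS]
    exact (grs_cover h.elem h.ne_bot h.valH_cop h.valH_inv (nm_com hAR hAR q)).trans le_sup_left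
  · refine hlie _ _ _ ?_
    exact nm_iff.mp (inf_le_left.trans ((com_le (nm_self R) q).trans (hRC _)))
  · refine hlie _ _ _ ?_
    exact commutator_mono inf_le_left (inf_le_left.trans (com_le (nm_self R) q))
  · have hle : com R R q ⊓ centralizer (D : Set G) ≤ H ⊓ centralizer (D : Set G) :=
      inf_le_inf_right _ ((com_le (nm_self R) q).trans inf_le_left)
    refine (itb_mono' le_rfl (grs_mono hle) _).trans ((itb_antitone (X := (⊤ : AddSubgroup (L H))) (fun _ _ _ _ => trivial)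
      (Nat.le_succ e)).trans ?_)
    rw [he]
    exact h.lie_hp (hS ▸ hD)
  · have h0 : com R R e = ⊥ := by rw [he]; exact h.elt_class ha ha1
    show itb ⊤ (grs H (com R R e)) 1 ≤ ⊥
    rw [h0, grs_bot]
    exact itb_succ_le fun x _ z hz => by
      rw [AddSubgroup.mem_bot] at hz ⊢; rw [hz, lie_zero]

/-- Class bound from the derived length of the Lie ring. -/
def lieCls (m T : ℕ) : ℕ → ℕ
  | 0 => 0
  | i + 1 => lieCls m T i + m ^ (T * lieCls m T i)

theorem Cfg.grs_le_ld (h : Cfg p A G₀ w c) :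
    ∀ i, grs (valH G₀ w) ((valH G₀ w).lowerCentralSeries
      (lieCls (eltCls c (Nat.card A) w.size + 1) (2 ^ Nat.card A) i)) ≤ ld (valH G₀ w) i := by
  classical
  set H := valH G₀ w
  obtain ⟨m, hm⟩ : ∃ m, m = eltCls c (Nat.card A) w.size + 1 := ⟨_, rfl⟩
  obtain ⟨S, hS⟩ : ∃ S, S = HP p A := ⟨_, rfl⟩
  rw [← hm]
  intro i
  induction i with
  | zero => exact le_top
  | succ i ih =>
    obtain ⟨e, he⟩ : ∃ e, e = lieCls m (2 ^ Nat.card A) i := ⟨_, rfl⟩
    rw [← he] at ih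
    show grs H (H.lowerCentralSeries (lieCls m (2 ^ Nat.card A) i +
      m ^ (2 ^ Nat.card A * lieCls m (2 ^ Nat.card A) i))) ≤ _
    rw [← he]
    have hdeep : ∀ r, grs H (H.lowerCentralSeries (e + r)) ≤
        itb (grs H (H.lowerCentralSeries e)) ⊤ r := by
      intro r
      induction r with
      | zero => exact le_rfl
      | succ r ihr => exact (grs_lcs_succ_le (e + r)).trans (itb_succ_le fun x hx z hz =>
          lie_mem_itb (ihr hx) hz)
    refine (hdeep _).trans ((itb_mono' ih le_rfl _).trans ?_)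
    have hP : ∀ q, ∀ x ∈ grs H (H.lowerCentralSeries q) ⊔ ld H i, ∀ y : L H,
        ⁅x, y⁆ ∈ grs H (H.lowerCentralSeries (q + 1)) ⊔ ld H i := by
      intro q x hx y
      obtain ⟨u, hu, v, hv, rfl⟩ := AddSubgroup.mem_sup.mp hx
      rw [add_lie]
      exact AddSubgroup.add_mem_sup (grs_lcs_stable q u hu y) (ld_ideal i v hv y)
    have hanti : ∀ q, grs H (H.lowerCentralSeries (q + 1)) ≤ grs H (H.lowerCentralSeries q) :=
      fun q => grs_mono (H.lowerCentralSeries_antitone (Nat.le_succ q))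
    have key := itb_chain (V := ld H i) (U := ld H (i + 1)) (a := m) (b := 1)
      (fun q => grs H (H.lowerCentralSeries q) ⊔ ld H i)
      (fun q (D : Subgroup G) => grs H (H.lowerCentralSeries q ⊓ centralizer (D : Set G))) S e
      (ld_ideal i) (ld_ideal (i + 1)) (fun q => ?_) (fun q D _ => ?_) (fun q D _ D' _ => ?_)
      (fun q D hD => ?_) ?_
    · refine le_trans (itb_mono' le_rfl ?_ _) ((itb_antitone (fun x hx y _ => ld_ideal i x hx y) ?_).trans key)
      · rw [← grs_lcs_zero (H := H)]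
        exact le_sup_left
      · rw [mul_one]
        refine Nat.pow_le_pow_right (by omega) (Nat.mul_le_mul_right _ ?_)
        exact hS ▸ card_fam_le _
    · rw [hS]
      exact sup_le ((grs_cover h.elem h.ne_bot h.valH_cop h.valH_inv
        (nm_lcs h.valH_inv q)).trans le_sup_left) (le_sup_right.trans le_sup_right)
    · intro x hx y _
      exact sup_le_sup_right (hanti _) _ (hP _ x hx y)
    · intro x hx y _
      exact hP q x (AddSubgroup.mem_sup_left (grs_mono inf_le_left hx)) y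
    · have hle : H.lowerCentralSeries q ⊓ centralizer (D : Set G) ≤ H ⊓ centralizer (D : Set G) :=
        inf_le_inf_right _ (H.lowerCentralSeries_le_self q)
      refine (itb_mono' le_top (grs_mono hle) _).trans ((itb_antitone (X := (⊤ : AddSubgroup (L H))) (fun _ _ _ _ => trivial)
        (by omega : eltCls c (Nat.card A) w.size ≤ m)).trans ((h.lie_hp (hS ▸ hD)).trans bot_le))
    · refine itb_succ_le fun x hx z hz => ld_lie hx ?_
      obtain ⟨u, hu, v, hv, rfl⟩ := AddSubgroup.mem_sup.mp hz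
      exact add_mem (ih hu) hv

end Cfsg.Agent.Grp.CW
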