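import Mathlib
import Cfsg.Agent.Lib.Grp.CoprimeWord.LieBound

/-!
Shumyatsky's theorems: class bounds for tree values under coprime action of a large elementary
abelian group.
-/

set_option autoImplicit false
set_option maxHeartbeats 800000

namespace Cfsg.Agent.Grp.CW

open Subgroup AssocLie Kreknin
open scoped commutatorElement TensorProduct

universe u

variable {G : Type u} [Group G] [Finite G] {p : ℕ} [Fact p.Prime] {A G₀ : Subgroup G} {w : Word} {c : ℕ}

theorem cls_pow {H : Subgroup G} {n : ℕ} {g : H} (hg : g ∈ lcs H n) :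
    ∀ m : ℕ, cls n (g ^ m) = m • cls n g
  | 0 => by rw [pow_zero, cls_one, zero_nsmul]
  | m + 1 => by rw [pow_succ, cls_mul ((lcs H n).pow_mem hg m) hg, cls_pow hg m, succ_nsmul]

theorem card_nsmul_eq_zero {H : Subgroup G} (x : L H) : Nat.card H • x = 0 := by
  induction x using AssocLie.induction_cls with
  | h0 => exact nsmul_zero _
  | hadd a b ha hb => rw [nsmul_add, ha, hb, add_zero]
  | hcls n g hg => rw [← cls_pow hg, pow_card_eq_one', cls_one]

/-- Fixed points in the Lie ring come from fixed points in the group. -/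
theorem psi_fixed_mem (hA : Cfsg.IsElementaryAbelian p A) {H : Subgroup G} (hHp : ¬ p ∣ Nat.card H)
    (hAH : Nm A H) {a : G} (ha : a ∈ A) {x : L H}
    (hx : psi (H.normalizerMonoidHom ⟨a, hAH ha⟩) x = x) :
    x ∈ grs H (H ⊓ centralizer ({a} : Set G)) := by
  classical
  set α := H.normalizerMonoidHom ⟨a, hAH ha⟩
  rw [← DirectSum.sum_support_of x]
  refine sum_mem fun i _ => ?_
  obtain ⟨k, hk⟩ := QuotientGroup.mk_surjective (Additive.toMul (x i))
  have hxi : x i = Additive.ofMul (QuotientGroup.mk k) := by rw [hk]; rfl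
  have h1 : psi α x i = x i := by rw [hx]
  rw [psi, DirectSum.map_apply, hxi] at h1
  have h3 : (QuotientGroup.mk (⟨α k, map_mem_lcs α k.2⟩ : lcs H i) : Gr H i) = QuotientGroup.mk k :=
    congrArg Additive.toMul h1
  have h2 : ((k : H))⁻¹ * α k ∈ lcs H (i + 1) := (QuotientGroup.eq.mp h3.symm : _)
  have hα : ∀ y : H, (α y : G) = a * y * a⁻¹ := fun y => rfl
  set N := H.lowerCentralSeries (i + 1)
  set K := H.lowerCentralSeries i
  have hkK : ((k : H) : G) ∈ K := mem_lcs_iff.mp k.2
  have hNK : N ≤ K := H.lowerCentralSeries_antitone (Nat.le_succ i)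
  have hKN : Nm K N := (H.lowerCentralSeries_le_self i).trans (H.self_le_normalizer_lowerCentralSeries _)
  have hDA : Subgroup.zpowers a ≤ A := (Subgroup.zpowers_le).mpr ha
  have hz : a * (k : H) * a⁻¹ * ((k : H) : G)⁻¹ ∈ N := by
    have h4 : ((k : H) : G)⁻¹ * (a * (k : H) * a⁻¹) ∈ N := by
      have := mem_lcs_iff.mp h2
      rwa [Subgroup.coe_mul, Subgroup.coe_inv, hα] at this
    have h5 := mem_conj_normalizer (hKN hkK) h4
    convert h5 using 1
    group
  have hfix : ∀ d ∈ Subgroup.zpowers a, d * (k : H) * d⁻¹ * ((k : H) : G)⁻¹ ∈ N := by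
    intro d hd
    rw [Subgroup.zpowers_eq_closure] at hd
    suffices hs : d ∈ A ∧ d * (k : H) * d⁻¹ * ((k : H) : G)⁻¹ ∈ N from hs.2
    induction hd using Subgroup.closure_induction with
    | mem y hy => rw [Set.mem_singleton_iff.mp hy]; exact ⟨ha, hz⟩
    | one => exact ⟨one_mem _, by simp⟩
    | mul u v _ _ hu hv =>
      refine ⟨mul_mem hu.1 hv.1, ?_⟩
      have h5 := mem_conj_normalizer (nm_lcs hAH (i + 1) hu.1) hv.2
      convert mul_mem h5 hu.2 using 1
      group
    | inv u _ hu =>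
      refine ⟨inv_mem hu.1, ?_⟩
      have h5 := mem_conj_normalizer' (nm_lcs hAH (i + 1) hu.1) (inv_mem hu.2)
      convert h5 using 1
      group
  have hcop : (Nat.card (Subgroup.zpowers a)).Coprime (Nat.card K) :=
    (coprime_elemAb hA (not_dvd_of_le (H.lowerCentralSeries_le_self i) hHp)).coprime_dvd_left
      (Subgroup.card_dvd_of_le hDA)
  obtain ⟨g, ⟨hgK, hgC⟩, hg⟩ := exists_fixed_rep (Subgroup.zpowers a) K N (hDA.trans (nm_lcs hAH i))
    (inf_eq_bot_of_coprime hcop) (hcop.coprime_dvd_right (Subgroup.card_dvd_of_le hNK))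
    (Or.inl inferInstance) hNK hKN (hDA.trans (nm_lcs hAH (i + 1))) hkK hfix
  have hgH : g ∈ H := H.lowerCentralSeries_le_self i hgK
  have hg' : (⟨g, hgH⟩ : H) ∈ lcs H i := mem_lcs_iff.mpr hgK
  have e : DirectSum.of (fun n => Additive (Gr H n)) i (x i) = cls i (⟨g, hgH⟩ : H) := by
    rw [cls_of hg', hxi]
    congr 2
    exact QuotientGroup.eq.mpr (Subgroup.mem_subgroupOf.mpr (mem_lcs_iff.mpr hg))
  rw [e]
  refine cls_mem_grs hg' ⟨hgH, ?_⟩
  rw [Grp.centralizer_singleton_eq_zpowers]
  exact hgC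

/-- Bound for the derived length of the Lie ring. -/
def lieDer (p c N L : ℕ) : ℕ := krN (eltIdx c N L) (p - 1)

theorem Cfg.ld_eq_bot (h : Cfg p A G₀ w c) :
    ld (valH G₀ w) (lieDer p c (Nat.card A) w.size) = ⊥ := by
  classical
  have hp : Fact p.Prime := inferInstance
  obtain ⟨a, ha, ha1⟩ := (Subgroup.bot_or_exists_ne_one A).resolve_left h.ne_bot
  set H := valH G₀ w
  set R := H ⊓ centralizer ({a} : Set G)
  set α := H.normalizerMonoidHom ⟨a, h.valH_inv ha⟩ with hαdef
  have hα : α ^ p = 1 := by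
    rw [hαdef, ← map_pow, show (⟨a, h.valH_inv ha⟩ : ↥(Subgroup.normalizer (H : Set G))) ^ p = 1 from
      Subtype.ext (by simpa using h.elem.2 a ha), map_one]
  obtain ⟨A', ω, n, b, i₀, hω, hb⟩ := AssocLie.exists_ring p
  set f := LinearMap.lTensor (↥A') (psi α).toIntLinearMap with hf
  let F : ZMod p → AddSubgroup (↥A' ⊗[ℤ] L H) := fun i =>
    { carrier := {z | f z = ω ^ i.val • z}
      zero_mem' := by simp
      add_mem' := fun {x y} (hx : f x = _) (hy : f y = _) => by
        show f (x + y) = _; rw [map_add, smul_add, hx, hy]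
      neg_mem' := fun {x} (hx : f x = _) => by
        show f (-x) = _; rw [map_neg, smul_neg, hx] }
  have hωpow : ∀ n : ℕ, ω ^ (n : ZMod p).val = ω ^ n := fun n => by
    rw [ZMod.val_natCast, ← pow_eq_pow_mod n hω.pow_eq_one]
  have hωadd : ∀ i j : ZMod p, ω ^ (i + j).val = ω ^ i.val * ω ^ j.val := fun i j => by
    rw [← pow_add, ← hωpow (i.val + j.val), Nat.cast_add, ZMod.natCast_val, ZMod.natCast_val,
      ZMod.cast_id, ZMod.cast_id]
  have hcl : Closed F := fun i j x (hx : f x = _) y (hy : f y = _) => by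
    show f ⁅x, y⁆ = _
    rw [hf, lTensor_psi_lie, ← hf, hx, hy, t_smul_lie, t_lie_smul, smul_smul, hωadd]
  -- scalar extension of a subgroup
  let ext : AddSubgroup (L H) → AddSubgroup (↥A' ⊗[ℤ] L H) := fun X =>
    AddSubgroup.closure {z | ∃ r : ↥A', ∃ x ∈ X, r ⊗ₜ[ℤ] x = z}
  have hext_top : ∀ z, z ∈ ext ⊤ := by
    intro z
    induction z using TensorProduct.induction_on with
    | zero => exact zero_mem _
    | tmul r x => exact AddSubgroup.subset_closure ⟨r, x, trivial, rfl⟩
    | add u v hu hv => exact add_mem hu hv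
  have hext_itb : ∀ (X Y : AddSubgroup (L H)) m, itb (ext X) (ext Y) m ≤ ext (itb X Y m) := by
    intro X Y m
    induction m with
    | zero => exact le_rfl
    | succ m ih =>
      refine itb_succ_le fun x hx y hy => ?_
      refine Kreknin.closure_lie_left ?_ x (ih hx)
      rintro _ ⟨r, u, hu, rfl⟩
      refine Kreknin.closure_lie_right ?_ y hy
      rintro _ ⟨s, v, hv, rfl⟩
      rw [LieAlgebra.ExtendScalars.bracket_tmul]
      exact AddSubgroup.subset_closure ⟨r * s, _, lie_mem_itb hu hv, rfl⟩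
  have hF0 : F 0 ≤ ext (grs H R) := by
    intro z (hz : f z = _)
    rw [ZMod.val_zero, pow_zero, one_smul] at hz
    have key : ∀ (i : Fin n) (w' : ↥A' ⊗[ℤ] L H),
        TensorProduct.equivFinsuppOfBasisLeft b (f w') i =
          psi α (TensorProduct.equivFinsuppOfBasisLeft b w' i) := by
      intro i w'
      induction w' using TensorProduct.induction_on with
      | zero => simp
      | tmul r x => simp [hf, map_zsmul]
      | add u v hu hv => simp [map_add, hu, hv]
    rw [show z = (TensorProduct.equivFinsuppOfBasisLeft b z).sum fun i y => b i ⊗ₜ[ℤ] y by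
      rw [← TensorProduct.equivFinsuppOfBasisLeft_symm_apply, LinearEquiv.symm_apply_apply]]
    refine sum_mem fun i _ => AddSubgroup.subset_closure ⟨b i, _, ?_, rfl⟩
    refine psi_fixed_mem h.elem h.valH_cop h.valH_inv ha ?_
    rw [← key, hz]
  have hnil : ∀ k, itb (F k) (F 0) (eltIdx c (Nat.card A) w.size) = ⊥ := by
    intro k
    refine le_bot_iff.mp ((itb_mono' (fun z _ => hext_top z) hF0 _).trans ((hext_itb _ _ _).trans ?_))
    refine (AddSubgroup.closure_le _).mpr ?_
    rintro _ ⟨r, x, hx, rfl⟩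
    have := h.lie_elt ha ha1 hx
    rw [AddSubgroup.mem_bot] at this
    rw [this, TensorProduct.tmul_zero]
    exact zero_mem _
  have hgder := gder_eq_bot_of_nilpotent hcl hnil
  -- eigenvector decomposition
  let π : ZMod p → L H → ↥A' ⊗[ℤ] L H := fun i x =>
    ∑ k : ZMod p, (ω ^ (-(i * k)).val) ⊗ₜ[ℤ] psi (α ^ k.val) x
  have hαk : ∀ k : ZMod p, α * α ^ k.val = α ^ (k + 1).val := fun k => by
    rw [← pow_succ', pow_eq_pow_mod (k.val + 1) hα]
    congr 1
    rw [← ZMod.val_natCast, Nat.cast_add, Nat.cast_one, ZMod.natCast_val, ZMod.cast_id]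
  have hπ : ∀ i x, π i x ∈ F i := by
    intro i x
    show f (π i x) = _
    simp only [π, map_sum, Finset.smul_sum]
    have e : ∀ k : ZMod p, f ((ω ^ (-(i * k)).val) ⊗ₜ[ℤ] psi (α ^ k.val) x) =
        ω ^ i.val • ((ω ^ (-(i * (k + 1))).val) ⊗ₜ[ℤ] psi (α ^ (k + 1).val) x) := by
      intro k
      rw [hf, LinearMap.lTensor_tmul, TensorProduct.smul_tmul', smul_eq_mul, ← hωadd,
        show i + -(i * (k + 1)) = -(i * k) by ring, AddMonoidHom.coe_toIntLinearMap, ← hαk]
      congr 1
      induction x using AssocLie.induction_cls with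
      | h0 => simp
      | hadd u v hu hv => simp [map_add, hu, hv]
      | hcls n a ha => rw [psi_cls _ ha, psi_cls _ (map_mem_lcs _ ha), psi_cls _ ha, MulAut.mul_apply]
    rw [Finset.sum_congr rfl fun k _ => e k]
    exact Fintype.sum_equiv (Equiv.addRight (1 : ZMod p)) _
      (fun k => ω ^ i.val • ((ω ^ (-(i * k)).val) ⊗ₜ[ℤ] psi (α ^ k.val) x)) fun k => rfl
  have hsum : ∀ x, ∑ i : ZMod p, π i x = p • ((1 : A') ⊗ₜ[ℤ] x) := by
    intro x
    simp only [π]
    rw [Finset.sum_comm]
    simp_rw [← TensorProduct.sum_tmul]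
    rw [Finset.sum_eq_single 0 (fun k _ hk => ?_) (fun h => absurd (Finset.mem_univ _) h)]
    · simp [psi_one, TensorProduct.smul_tmul']
    · have h1 : ∑ i : ZMod p, ω ^ (-(i * k)).val = ∑ i : ZMod p, ω ^ i.val := by
        refine Fintype.sum_equiv (Equiv.mulRight₀ (-k) (neg_ne_zero.mpr hk)) _ _ fun i => ?_
        simp [mul_neg]
      have h2 : ∑ i : ZMod p, ω ^ i.val = 0 := by
        rw [← hω.geom_sum_eq_zero hp.out.one_lt]
        refine Finset.sum_bij (fun i _ => i.val) (fun i _ => Finset.mem_range.mpr (ZMod.val_lt i))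
          (fun i _ j _ h => ZMod.val_injective p h) (fun n hn => ⟨(n : ZMod p), Finset.mem_univ _,
            ZMod.val_cast_of_lt (Finset.mem_range.mp hn)⟩) fun i _ => rfl
      rw [h1, h2, TensorProduct.zero_tmul]
  set D : ℕ → AddSubgroup (↥A' ⊗[ℤ] L H) := fun n => ⨆ k, gder F n k
  have hDlie : ∀ n, ∀ u ∈ D n, ∀ v ∈ D n, ⁅u, v⁆ ∈ D (n + 1) := by
    intro n u hu v hv
    refine AddSubgroup.iSup_induction (fun k => gder F n k) (C := fun u => ⁅u, v⁆ ∈ D (n + 1)) hu
      (fun k u hu => ?_) (by rw [t_zero_lie]; exact zero_mem _)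
      (fun a b ha hb => by rw [t_add_lie]; exact add_mem ha hb)
    refine AddSubgroup.iSup_induction (fun k => gder F n k) (C := fun v => ⁅u, v⁆ ∈ D (n + 1)) hv
      (fun k' v hv => AddSubgroup.mem_iSup_of_mem (k + k') (lie_mem_gbrk hu hv))
      (by rw [t_lie_zero]; exact zero_mem _)
      (fun a b ha hb => by rw [t_lie_add]; exact add_mem ha hb)
  have hall : ∀ n, ∀ x ∈ ld H n, (p ^ 2 ^ n) • ((1 : A') ⊗ₜ[ℤ] x) ∈ D n := by
    intro n
    induction n with
    | zero =>
      intro x _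
      rw [pow_zero, pow_one, ← hsum]
      exact sum_mem fun i _ => AddSubgroup.mem_iSup_of_mem (S := fun k => gder F 0 k) i (hπ i x)
    | succ n ih =>
      intro x hx
      induction hx using AddSubgroup.closure_induction with
      | mem y hy =>
        obtain ⟨u, hu, v, hv, rfl⟩ := hy
        have h1 := hDlie n _ (ih u hu) _ (ih v hv)
        rw [pow_succ, pow_mul, pow_two, mul_smul]
        rwa [nsmul_lie, lie_nsmul, LieAlgebra.ExtendScalars.bracket_tmul, one_mul] at h1
      | zero => simp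
      | add u v _ _ hu hv => rw [TensorProduct.tmul_add, smul_add]; exact add_mem hu hv
      | neg u _ hu => rw [TensorProduct.tmul_neg, smul_neg]; exact neg_mem hu
  refine le_bot_iff.mp fun x hx => ?_
  have h1 := hall _ x hx
  rw [show D (lieDer p c (Nat.card A) w.size) = ⊥ from iSup_eq_bot.mpr hgder,
    AddSubgroup.mem_bot] at h1
  have h2 := congrArg (fun z => TensorProduct.equivFinsuppOfBasisLeft b z i₀) h1
  simp only [map_nsmul, map_zero, Finsupp.coe_smul, Pi.smul_apply, Finsupp.coe_zero, Pi.zero_apply,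
    TensorProduct.equivFinsuppOfBasisLeft_apply_tmul_apply] at h2
  rw [← hb, Module.Basis.repr_self, Finsupp.single_eq_same, one_smul] at h2
  have hco : (p ^ 2 ^ lieDer p c (Nat.card A) w.size).Coprime (Nat.card H) :=
    (hp.out.coprime_iff_not_dvd.mpr h.valH_cop).pow_left _
  rw [AddSubgroup.mem_bot]
  refine AddMonoid.addOrderOf_eq_one_iff.mp (Nat.eq_one_of_dvd_coprimes hco
    (addOrderOf_dvd_of_nsmul_eq_zero h2) (addOrderOf_dvd_of_nsmul_eq_zero (card_nsmul_eq_zero x)))

/-- The class bound. -/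
def classBd (p c N L : ℕ) : ℕ :=
  lieCls (eltCls c N L + 1) (2 ^ N) (lieDer p c N L)

theorem Cfg.class_bound (h : Cfg p A G₀ w c) :
    com (valH G₀ w) (valH G₀ w) (classBd p c (Nat.card A) w.size) = ⊥ := by
  set H := valH G₀ w
  obtain ⟨B, hB⟩ : ∃ B, B = classBd p c (Nat.card A) w.size := ⟨_, rfl⟩
  have h1 : grs H (H.lowerCentralSeries B) ≤ ⊥ := by
    rw [hB, ← h.ld_eq_bot]
    exact h.grs_le_ld _
  have h2 : H.lowerCentralSeries B ≤ H.lowerCentralSeries (B + 1) := by
    intro x hx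
    have hxH := H.lowerCentralSeries_le_self B hx
    have hxl : (⟨x, hxH⟩ : H) ∈ lcs H B := mem_lcs_iff.mpr hx
    have h3 := h1 (cls_mem_grs hxl hx)
    rw [AddSubgroup.mem_bot, cls_eq_zero_iff hxl] at h3
    exact mem_lcs_iff.mp h3
  obtain ⟨n, hn⟩ := h.nilpotent
  have h4 : ∀ k, H.lowerCentralSeries B ≤ H.lowerCentralSeries (B + k) := by
    intro k
    induction k with
    | zero => exact le_rfl
    | succ k ih => exact h2.trans (Subgroup.commutator_mono ih le_rfl)
  rw [← hB, com_self_eq_lcs]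
  rw [com_self_eq_lcs] at hn
  exact le_bot_iff.mp (((h4 n).trans (H.lowerCentralSeries_antitone (Nat.le_add_left n B))).trans hn.le)

end Cfsg.Agent.Grp.CW
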