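import Mathlib
import Cfsg.Prelude.Def_Local
import Cfsg.Agent.Lib.Grp.CoprimeWord.Main

/-!
The class bound for a group of automorphisms.
-/

set_option autoImplicit false

namespace Cfsg.Agent.Grp.CW

open Subgroup
open scoped commutatorElement

universe u

/-- Balanced trees. -/
def balanced : ℕ → Word
  | 0 => .leaf
  | d + 1 => .node (balanced d) (balanced d)

/-- Left normed trees. -/
def comb : ℕ → Word
  | 0 => .leaf
  | n + 1 => .node (comb n) .leaf

theorem size_balanced : ∀ d, (balanced d).size = 2 ^ d
  | 0 => rfl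
  | d + 1 => by
    show (balanced d).size + (balanced d).size = _
    rw [size_balanced d, pow_succ]
    omega

theorem size_comb : ∀ n, (comb n).size = n + 1
  | 0 => rfl
  | n + 1 => by
    show (comb n).size + 1 = _
    rw [size_comb n]

theorem wsub_balanced {G : Type*} [Group G] (X : Subgroup G) : ∀ d, wsub (balanced d) X = dser X d
  | 0 => rfl
  | d + 1 => by
    show ⁅wsub (balanced d) X, wsub (balanced d) X⁆ = _
    rw [wsub_balanced X d]
    rfl

theorem wsub_comb {G : Type*} [Group G] (X : Subgroup G) :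
    ∀ n, wsub (comb n) X = X.lowerCentralSeries n
  | 0 => rfl
  | n + 1 => by
    show ⁅wsub (comb n) X, X⁆ = _
    rw [wsub_comb X n]
    rfl

theorem dser_top {G : Type*} [Group G] : ∀ d, dser (⊤ : Subgroup G) d = derivedSeries G d
  | 0 => rfl
  | d + 1 => by
    show ⁅_, _⁆ = _
    rw [dser_top d]
    rfl

/-- The class bound for automorphism groups. -/
theorem class_bound_aut {p : ℕ} [Fact p.Prime] {k c : ℕ} (w : Word) (hw : w.size + 2 ≤ k)
    (G : Type u) [Group G] [Finite G] (hG : (Nat.card G).Coprime p) (A : Subgroup (MulAut G))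
    (hA : Cfsg.IsElementaryAbelian p A) (hAk : Nat.card A = p ^ k)
    (hfix : ∀ a ∈ A, a ≠ 1 →
      (wsub w ((a : MulAut G).toMonoidHom.eqLocus (MonoidHom.id G))).lowerCentralSeries c = ⊥) :
    (wsub w (⊤ : Subgroup G)).lowerCentralSeries (classBd p c (p ^ k) w.size) = ⊥ := by
  classical
  set φ : A →* MulAut G := A.subtype
  haveI : Finite A := Nat.finite_of_card_ne_zero (hAk ▸ pow_ne_zero _ (Fact.out : p.Prime).ne_zero)
  haveI : Finite (G ⋊[φ] A) := Finite.of_equiv _ SemidirectProduct.equivProd.symm
  let inX : G →* G ⋊[φ] A := SemidirectProduct.inl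
  let inA : A →* G ⋊[φ] A := SemidirectProduct.inr
  have hiX : Function.Injective inX := SemidirectProduct.inl_injective
  have hiA : Function.Injective inA := SemidirectProduct.inr_injective
  haveI hXn : inX.range.Normal := by
    rw [show inX = SemidirectProduct.inl from rfl, SemidirectProduct.range_inl_eq_ker_rightHom]
    infer_instance
  have hAel : Cfsg.IsElementaryAbelian p inA.range := by
    refine ⟨⟨⟨?_⟩⟩, ?_⟩
    · rintro ⟨_, a, rfl⟩ ⟨_, b, rfl⟩
      exact Subtype.ext (show inA a * inA b = inA b * inA a by rw [← map_mul, ← map_mul, hA.1.1.comm a b])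
    · rintro _ ⟨a, rfl⟩
      rw [← map_pow, show a ^ p = 1 from Subtype.ext (by simpa using hA.2 a a.2), map_one]
  have hAc : Nat.card inA.range = p ^ k :=
    (Nat.card_congr (MonoidHom.ofInjective hiA).toEquiv).symm.trans hAk
  have hXc : Nat.card inX.range = Nat.card G :=
    (Nat.card_congr (MonoidHom.ofInjective hiX).toEquiv).symm
  have hcfg : Cfg p inA.range inX.range w c := by
    refine ⟨hAel, ?_, ?_, nm_normal _ _, ?_⟩
    · rw [hAc]; exact Nat.pow_le_pow_right (Fact.out : p.Prime).pos hw
    · rw [hXc]; exact (Fact.out : p.Prime).coprime_iff_not_dvd.mp hG.symm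
    · rintro _ ⟨a, rfl⟩ ha1
      have hfx : inX.range ⊓ Subgroup.centralizer ({inA a} : Set (G ⋊[φ] A)) =
          (((a : MulAut G).toMonoidHom.eqLocus (MonoidHom.id G))).map inX := by
        ext z
        constructor
        · rintro ⟨⟨x, rfl⟩, hz⟩
          refine ⟨x, ?_, rfl⟩
          have h1 := Subgroup.mem_centralizer_iff.mp hz (inA a) rfl
          have h2 : inX (φ a x) = inA a * inX x * inA a⁻¹ := SemidirectProduct.inl_aut a x
          rw [map_inv, h1, mul_inv_cancel_right] at h2
          exact hiX h2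
        · rintro ⟨x, hx, rfl⟩
          refine Subgroup.mem_inf.mpr ⟨⟨x, rfl⟩, Subgroup.mem_centralizer_iff.mpr ?_⟩
          rintro y (rfl : y = inA a)
          have h2 : inX (φ a x) = inA a * inX x * inA a⁻¹ := SemidirectProduct.inl_aut a x
          rw [show φ a x = x from hx, map_inv] at h2
          conv_rhs => rw [h2, inv_mul_cancel_right]
      rw [hfx, ← wsub_map, ← map_lowerCentralSeries,
        hfix a a.2 (fun e => ha1 (by rw [show a = 1 from Subtype.ext e, map_one])), Subgroup.map_bot]
  have h := hcfg.class_bound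
  rw [hAc, com_self_eq_lcs] at h
  refine Subgroup.map_injective hiX ?_
  rw [map_lowerCentralSeries, wsub_map, ← MonoidHom.range_eq_map, Subgroup.map_bot]
  exact h

end Cfsg.Agent.Grp.CW
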